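import Mathlib
import Cfsg.Agent.Lib.Helper80.Inflation
import Cfsg.Agent.Lib.Helper76.Galois
import Cfsg.Agent.Lib.Helper76.Eigen

/-! Galois averaging of character values over subsets closed under coprime powers
(Burnside's argument on zeros of characters). -/

set_option autoImplicit false

namespace Cfsg.Agent.Lib.Helper80

open Cfsg.Agent.Lib.Helper76

variable {G : Type*} [Group G] [Fintype G]

/-- Reindexing a sum over a subset closed under coprime powers. -/
theorem sum_pow_coprime_eq (S : Finset G)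
    (hS : ∀ g ∈ S, ∀ k : ℕ, k.Coprime (Fintype.card G) → g ^ k ∈ S) (f : G → ℝ) (k : ℕ)
    (hk : k.Coprime (Fintype.card G)) : ∑ g ∈ S, f (g ^ k) = ∑ g ∈ S, f g := by
  classical
  have hc : (Nat.card G).Coprime k := by
    rw [Nat.card_eq_fintype_card]
    exact hk.symm
  have hinj : Function.Injective (fun g : G => g ^ k) := (powCoprime hc).injective
  have himg : S.image (fun g : G => g ^ k) = S := by
    apply Finset.eq_of_subset_of_card_le
    · intro x hx
      obtain ⟨g, hg, rfl⟩ := Finset.mem_image.1 hx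
      exact hS g hg k hk
    · rw [Finset.card_image_of_injective _ hinj]
  conv_rhs => rw [← himg]
  rw [Finset.sum_image (fun a _ b _ h => hinj h)]

/-- Burnside's averaging argument: on a subset closed under coprime powers, the sum of `|χ|²` is at
least the number of non-zeros of the character `χ`. -/
theorem card_filter_le_sum_norm_sq [DecidableEq G] {χ : G → ℂ} (hχ : IsCharacter G χ) (S : Finset G)
    (hS : ∀ g ∈ S, ∀ k : ℕ, k.Coprime (Fintype.card G) → g ^ k ∈ S) :
    ((S.filter (fun g => χ g ≠ 0)).card : ℝ) ≤ ∑ g ∈ S, ‖χ g‖ ^ 2 := by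
  obtain ⟨n, ρ, rfl⟩ := hχ
  obtain ⟨ι, _, hne, k, hk, H⟩ := galois_avg (Fintype.card G) Fintype.card_pos
  have hι : (0 : ℝ) < Fintype.card ι := by exact_mod_cast Fintype.card_pos
  have h1 : ∑ j : ι, ∑ g ∈ S, ‖ρ.character (g ^ k j)‖ ^ 2 =
      (Fintype.card ι : ℝ) * ∑ g ∈ S, ‖ρ.character g‖ ^ 2 := by
    rw [Finset.sum_congr rfl
      (fun j _ => sum_pow_coprime_eq S hS (fun g => ‖ρ.character g‖ ^ 2) (k j) (hk j))]
    simp
  have h2 : ∀ g ∈ S, (if ρ.character g ≠ 0 then (Fintype.card ι : ℝ) else 0) ≤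
      ∑ j : ι, ‖ρ.character (g ^ k j)‖ ^ 2 := by
    intro g _
    split_ifs with hg
    · obtain ⟨μ, hμ1, hμ2⟩ := exists_char_eigenvalues ρ g (Fintype.card G) Fintype.card_pos
        pow_card_eq_one
      have h3 := (H _ μ hμ1 (by
        have := hμ2 1
        simp only [pow_one] at this
        rw [← this]
        exact hg)).2.2
      refine le_trans h3 (le_of_eq ?_)
      apply Finset.sum_congr rfl
      intro j _
      rw [hμ2]
    · positivity
  have h3 := Finset.sum_le_sum h2
  rw [Finset.sum_comm, h1, ← Finset.sum_filter, Finset.sum_const, nsmul_eq_mul, mul_comm] at h3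
  exact le_of_mul_le_mul_left h3 hι

/-- The same for a character with non-negative real values, without squares. -/
theorem card_filter_le_sum_re [DecidableEq G] {χ : G → ℂ} (hχ : IsCharacter G χ)
    (hpos : ∀ g, ∃ r : ℝ, 0 ≤ r ∧ χ g = r) (S : Finset G)
    (hS : ∀ g ∈ S, ∀ k : ℕ, k.Coprime (Fintype.card G) → g ^ k ∈ S) :
    ((S.filter (fun g => χ g ≠ 0)).card : ℝ) ≤ ∑ g ∈ S, (χ g).re := by
  obtain ⟨n, ρ, rfl⟩ := hχ
  obtain ⟨ι, _, hne, k, hk, H⟩ := galois_avg (Fintype.card G) Fintype.card_pos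
  have hι : (0 : ℝ) < Fintype.card ι := by exact_mod_cast Fintype.card_pos
  have h1 : ∑ j : ι, ∑ g ∈ S, (ρ.character (g ^ k j)).re =
      (Fintype.card ι : ℝ) * ∑ g ∈ S, (ρ.character g).re := by
    rw [Finset.sum_congr rfl
      (fun j _ => sum_pow_coprime_eq S hS (fun g => (ρ.character g).re) (k j) (hk j))]
    simp
  have hre : ∀ g, 0 ≤ (ρ.character g).re ∧ ρ.character g = ((ρ.character g).re : ℂ) := by
    intro g
    obtain ⟨r, hr, h⟩ := hpos g
    rw [h]
    simpa using hr
  have h2 : ∀ g ∈ S, (if ρ.character g ≠ 0 then (Fintype.card ι : ℝ) else 0) ≤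
      ∑ j : ι, (ρ.character (g ^ k j)).re := by
    intro g _
    split_ifs with hg
    · obtain ⟨μ, hμ1, hμ2⟩ := exists_char_eigenvalues ρ g (Fintype.card G) Fintype.card_pos
        pow_card_eq_one
      obtain ⟨h3, ⟨z, hz0, hz⟩, -⟩ := (H _ μ hμ1 (by
        have := hμ2 1
        simp only [pow_one] at this
        rw [← this]
        exact hg))
      have h4 : ∀ j, 0 < (ρ.character (g ^ k j)).re := by
        intro j
        refine lt_of_le_of_ne (hre _).1 ?_
        intro h0
        apply h3 j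
        rw [← hμ2, (hre _).2, ← h0]
        simp
      apply card_le_sum_of_one_le_prod _ h4
      have h5 : ((∏ j, (ρ.character (g ^ k j)).re : ℝ) : ℂ) = (z : ℂ) := by
        rw [← hz]
        push_cast
        apply Finset.prod_congr rfl
        intro j _
        rw [← hμ2, ← (hre _).2]
      have h6 : (∏ j, (ρ.character (g ^ k j)).re : ℝ) = (z : ℝ) := by exact_mod_cast h5
      have h7 : (0 : ℝ) < ∏ j, (ρ.character (g ^ k j)).re := Finset.prod_pos (fun j _ => h4 j)
      rw [h6] at h7 ⊢
      have h8 : (0 : ℤ) < z := by exact_mod_cast h7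
      exact_mod_cast h8
    · exact Finset.sum_nonneg (fun j _ => (hre _).1)
  have h3 := Finset.sum_le_sum h2
  rw [Finset.sum_comm, h1, ← Finset.sum_filter, Finset.sum_const, nsmul_eq_mul, mul_comm] at h3
  exact le_of_mul_le_mul_left h3 hι

end Cfsg.Agent.Lib.Helper80
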