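import Mathlib
import Cfsg.Agent.Lib.Helper80.Inflation
import Cfsg.Agent.Lib.Helper74.CharBasic
import Cfsg.Agent.Lib.Helper3.Table

/-! Deflation of class functions to a quotient group: averaging over cosets.
The deflation of a character is a character. -/

set_option autoImplicit false

namespace Cfsg.Agent.Lib.Helper80

open Cfsg.Agent.Lib.Helper74
open scoped ComplexConjugate

variable {G : Type*} [Group G] [Fintype G]

open Classical in
/-- The average of `Φ` over the cosets of `N`. -/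
noncomputable def defl (N : Subgroup G) [N.Normal] (Φ : G → ℂ) : G ⧸ N → ℂ :=
  fun q => (Nat.card N : ℂ)⁻¹ * ∑ g ∈ Finset.univ.filter (fun g : G => (g : G ⧸ N) = q), Φ g

theorem defl_mk (N : Subgroup G) [N.Normal] [Fintype N] (Φ : G → ℂ) (x : G) :
    defl N Φ (x : G ⧸ N) = (Nat.card N : ℂ)⁻¹ * ∑ n : N, Φ ((n : G) * x) := by
  classical
  unfold defl
  congr 1
  symm
  apply Finset.sum_bij (fun (n : N) _ => (n : G) * x)
  · intro n _
    rw [Finset.mem_filter]
    refine ⟨Finset.mem_univ _, ?_⟩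
    rw [QuotientGroup.mk_mul, (QuotientGroup.eq_one_iff (n : G)).2 n.2, one_mul]
  · intro a _ b _ h
    exact Subtype.ext (mul_right_cancel h)
  · intro g hg
    rw [Finset.mem_filter] at hg
    refine ⟨⟨g * x⁻¹, ?_⟩, Finset.mem_univ _, by simp⟩
    rw [← QuotientGroup.eq_one_iff, QuotientGroup.mk_mul, hg.2, QuotientGroup.mk_inv, mul_inv_cancel]
  · intro n _
    rfl

theorem classInner_defl (N : Subgroup G) [N.Normal] [Fintype (G ⧸ N)] (Φ : G → ℂ)
    (β : G ⧸ N → ℂ) : classInner (defl N Φ) β = classInner Φ (fun g => β (g : G ⧸ N)) := by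
  classical
  unfold classInner defl
  have hN : (Nat.card N : ℂ) ≠ 0 := by exact_mod_cast Nat.card_pos.ne'
  have hQ : (Nat.card (G ⧸ N) : ℂ) ≠ 0 := by exact_mod_cast Nat.card_pos.ne'
  have hcard : (Nat.card G : ℂ) = (Nat.card (G ⧸ N) : ℂ) * (Nat.card N : ℂ) := by
    rw [Subgroup.card_eq_card_quotient_mul_card_subgroup N]
    push_cast
    rfl
  rw [hcard, mul_inv, mul_assoc]
  congr 1
  rw [← Finset.sum_fiberwise Finset.univ (fun g : G => (g : G ⧸ N)), Finset.mul_sum]
  apply Finset.sum_congr rfl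
  intro q _
  rw [mul_assoc, Finset.sum_mul]
  congr 1
  apply Finset.sum_congr rfl
  intro g hg
  beta_reduce
  rw [(Finset.mem_filter.1 hg).2]

theorem isClassFunction_defl (N : Subgroup G) [N.Normal] {Φ : G → ℂ} (hΦ : IsClassFunction G Φ) :
    IsClassFunction (G ⧸ N) (defl N Φ) := by
  classical
  intro q r
  obtain ⟨x, rfl⟩ := QuotientGroup.mk_surjective q
  obtain ⟨y, rfl⟩ := QuotientGroup.mk_surjective r
  unfold defl
  congr 1
  symm
  apply Finset.sum_bij (fun (g : G) _ => y * g * y⁻¹)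
  · intro g hg
    rw [Finset.mem_filter] at hg ⊢
    refine ⟨Finset.mem_univ _, ?_⟩
    rw [QuotientGroup.mk_mul, QuotientGroup.mk_mul, hg.2, QuotientGroup.mk_inv]
  · intro a _ b _ h
    simpa using h
  · intro g hg
    rw [Finset.mem_filter] at hg
    refine ⟨y⁻¹ * g * y, ?_, by group⟩
    rw [Finset.mem_filter]
    refine ⟨Finset.mem_univ _, ?_⟩
    rw [QuotientGroup.mk_mul, QuotientGroup.mk_mul, hg.2, QuotientGroup.mk_inv]
    group
  · intro g _
    exact (hΦ g y).symm

/-- The deflation of a character is a character. -/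
theorem isCharacter_defl (N : Subgroup G) [N.Normal] {Φ : G → ℂ} (hΦ : IsCharacter G Φ) :
    IsCharacter (G ⧸ N) (defl N Φ) := by
  classical
  have := Fintype.ofFinite (G ⧸ N)
  rw [Cfsg.Agent.Lib.Helper3.isCharacter_iff]
  refine ⟨isClassFunction_defl N (isClassFunction_of_char hΦ), fun β => ?_⟩
  rw [classInner_defl]
  exact IsCharacter.classInner_irr_nat hΦ
    ⟨_, isIrrCharacter_comp (QuotientGroup.mk' N) (QuotientGroup.mk'_surjective N) β.2⟩

/-- The sum of the values of the deflation. -/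
theorem sum_defl (N : Subgroup G) [N.Normal] [Fintype (G ⧸ N)] (Φ : G → ℂ) :
    ∑ q : G ⧸ N, defl N Φ q = (Nat.card N : ℂ)⁻¹ * ∑ g : G, Φ g := by
  classical
  unfold defl
  rw [← Finset.mul_sum, Finset.sum_fiberwise]

end Cfsg.Agent.Lib.Helper80
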