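import Mathlib
import Cfsg.Agent.Lib.Helper80.Deflation
import Cfsg.Agent.Lib.Helper80.Induced
import Cfsg.Agent.Lib.Helper15.Clifford2
import Cfsg.Agent.Lib.Helper15.LinearMul

/-! Characters lying over an invariant character of a normal subgroup with abelian quotient. -/

set_option autoImplicit false

namespace Cfsg.Agent.Lib.Helper80

open Cfsg.Agent.Lib.Helper74 Cfsg.Agent.Lib.Helper15
open scoped ComplexConjugate

variable {T : Type*} [Group T] [Fintype T] (N : Subgroup T) [hN : N.Normal] [Fintype N]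

/-- Two irreducible characters whose restrictions to `N` are not orthogonal differ by a character of
`T ⧸ N`; when `T ⧸ N` is abelian they have the same degree. -/
theorem char_one_eq_of_restrict_inner_ne_zero (hab : commutator T ≤ N) (ψ ψ₀ : IrrCharacter T)
    (h : classInner (fun n : N => (ψ : T → ℂ) n) (fun n : N => (ψ₀ : T → ℂ) n) ≠ 0) :
    (ψ : T → ℂ) 1 = (ψ₀ : T → ℂ) 1 := by
  classical
  have := Fintype.ofFinite (T ⧸ N)
  have hψ := isCharacter_of_irr ψ.2
  have hψ₀ := isCharacter_of_irr ψ₀.2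
  set D := defl N ((ψ : T → ℂ) * fun t => conj ((ψ₀ : T → ℂ) t)) with hD
  have hDc : IsCharacter (T ⧸ N) D := isCharacter_defl N (IsCharacter.mul hψ (IsCharacter.star hψ₀))
  have hD1 : D 1 = classInner (fun n : N => (ψ : T → ℂ) n) (fun n : N => (ψ₀ : T → ℂ) n) := by
    have h1 := defl_mk N ((ψ : T → ℂ) * fun t => conj ((ψ₀ : T → ℂ) t)) 1
    rw [QuotientGroup.mk_one] at h1
    rw [hD, h1]
    unfold classInner
    simp
  have hD0 : D ≠ 0 := by
    intro h0
    apply h
    rw [← hD1, h0]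
    rfl
  obtain ⟨lam, hlam⟩ := exists_constituent hDc hD0
  rw [hD, classInner_defl] at hlam
  have hcomm : ∀ a b : T ⧸ N, a * b = b * a := by
    have := (Subgroup.Normal.quotient_commutative_iff_commutator_le (N := N)).2 hab
    exact isMulCommutative_iff.1 this
  have hlam1 : (lam : T ⧸ N → ℂ) 1 = 1 := char_one_eq_one_of_comm hcomm lam
  set L : T → ℂ := fun t => (lam : T ⧸ N → ℂ) (t : T ⧸ N) with hL
  have hLc : IsCharacter T L :=
    isCharacter_of_irr (isIrrCharacter_comp (QuotientGroup.mk' N) (QuotientGroup.mk'_surjective N) lam.2)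
  have hL1 : L 1 = 1 := hlam1
  have hirr : IsIrrCharacter T (L * (ψ₀ : T → ℂ)) := irr_linear_mul hLc hL1 ψ₀.2
  have h2 : classInner (ψ : T → ℂ) (L * (ψ₀ : T → ℂ)) ≠ 0 := by
    intro h0
    apply hlam
    rw [← h0]
    unfold classInner
    congr 1
    apply Finset.sum_congr rfl
    intro t _
    simp only [Pi.mul_apply, map_mul]
    ring
  have h3 : (ψ : T → ℂ) = L * (ψ₀ : T → ℂ) := by
    by_contra hne
    exact h2 (Cfsg.Agent.Lib.Helper3.classInner_irr_ne ψ.2 hirr hne)
  rw [h3, Pi.mul_apply, hL1, one_mul]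

/-- The character induced from an invariant irreducible character of a normal subgroup with abelian
quotient is `e` times a sum of distinct irreducible characters of degree `e θ(1)`. -/
theorem ind_invariant_abelian (hab : commutator T ≤ N) {θ : N → ℂ} (hθ : IsIrrCharacter N θ)
    (hinv : ∀ t : T, cj N t θ = θ) :
    ∃ (e : ℕ) (C : Finset (IrrCharacter T)), 0 < e ∧ e ^ 2 * C.card * Nat.card N = Nat.card T ∧
      indFun N θ = (e : ℂ) • ∑ ψ ∈ C, (ψ : T → ℂ) ∧
      (∀ ψ ∈ C, (ψ : T → ℂ) 1 = (e : ℂ) * θ 1) ∧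
      ∀ ψ ∈ C, classInner (fun n : N => (ψ : T → ℂ) n) θ ≠ 0 := by
  classical
  have hθc := isCharacter_of_irr hθ
  have hθ1 : θ 1 ≠ 0 := char_one_ne_zero_of_irr hθ
  have hα : IsCharacter T (indFun N θ) := Cfsg.Agent.Lib.Helper3.isCharacter_indFun N hθc
  have hα1 := Cfsg.Agent.Lib.Helper3.indFun_one N θ
  obtain ⟨m, hm, hsum, -⟩ := exists_mult_spec hα
  -- multiplicities through Frobenius reciprocity
  have hm' : ∀ ψ : IrrCharacter T, classInner (fun n : N => (ψ : T → ℂ) n) θ = m ψ := by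
    intro ψ
    have h1 := Cfsg.Agent.Lib.Helper3.frobenius_reciprocity N θ
      (isClassFunction_of_char (isCharacter_of_irr ψ.2))
    rw [hm, ← Helper74.classInner_conj_symm] at h1
    have h2 := congrArg conj h1
    simpa using h2.symm
  have hres : ∀ ψ : IrrCharacter T, m ψ ≠ 0 → (fun n : N => (ψ : T → ℂ) n) = (m ψ : ℂ) • θ := by
    intro ψ hψ
    have h1 := restrict_eq_smul_of_invariant N ψ.2 hθ (by rw [hm']; exact_mod_cast hψ) hinv
    rwa [hm'] at h1
  have hne : indFun N θ ≠ 0 := by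
    intro h0
    rw [h0] at hα1
    have h3 : (N.index : ℂ) ≠ 0 := by exact_mod_cast N.index_ne_zero_of_finite
    exact (mul_ne_zero h3 hθ1) hα1.symm
  obtain ⟨ψ₀, hψ₀⟩ := exists_constituent hα hne
  rw [hm] at hψ₀
  have hψ₀' : m ψ₀ ≠ 0 := by exact_mod_cast hψ₀
  have hconst : ∀ ψ : IrrCharacter T, m ψ ≠ 0 → m ψ = m ψ₀ := by
    intro ψ hψ
    have h1 := char_one_eq_of_restrict_inner_ne_zero N hab ψ ψ₀ (by
      rw [hres ψ hψ, hres ψ₀ hψ₀', Helper74.classInner_smul_left, Helper74.classInner_smul_right,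
        Cfsg.Agent.Lib.Helper3.classInner_irr_self hθ]
      simp [hψ, hψ₀'])
    have h2 := congrFun (hres ψ hψ) 1
    have h3 := congrFun (hres ψ₀ hψ₀') 1
    simp only [Subgroup.coe_one, Pi.smul_apply, smul_eq_mul] at h2 h3
    rw [h1, h3] at h2
    have h4 := mul_right_cancel₀ hθ1 h2
    exact_mod_cast h4.symm
  refine ⟨m ψ₀, Finset.univ.filter (fun ψ => m ψ ≠ 0), Nat.pos_of_ne_zero hψ₀', ?_, ?_, ?_, ?_⟩
  · have h1 : indFun N θ 1 = (m ψ₀ : ℂ) * ((Finset.univ.filter (fun ψ => m ψ ≠ 0)).card : ℂ) *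
        ((m ψ₀ : ℂ) * θ 1) := by
      conv_lhs => rw [hsum]
      rw [Finset.sum_apply, ← Finset.sum_filter_add_sum_filter_not Finset.univ (fun ψ => m ψ ≠ 0)]
      have h2 : ∑ ψ ∈ Finset.univ.filter (fun ψ => ¬ m ψ ≠ 0), ((m ψ : ℂ) • (ψ : T → ℂ)) 1 = 0 := by
        apply Finset.sum_eq_zero
        intro ψ hψ
        have : m ψ = 0 := by simpa using (Finset.mem_filter.1 hψ).2
        simp [this]
      rw [h2, add_zero]
      have h3 : ∀ ψ ∈ Finset.univ.filter (fun ψ => m ψ ≠ 0), ((m ψ : ℂ) • (ψ : T → ℂ)) 1 =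
          (m ψ₀ : ℂ) * ((m ψ₀ : ℂ) * θ 1) := by
        intro ψ hψ
        have hψ' := (Finset.mem_filter.1 hψ).2
        have h4 := congrFun (hres ψ hψ') 1
        simp only [Subgroup.coe_one, Pi.smul_apply, smul_eq_mul] at h4 ⊢
        rw [h4, hconst ψ hψ']
      rw [Finset.sum_congr rfl h3, Finset.sum_const, nsmul_eq_mul]
      ring
    rw [hα1] at h1
    have h2 : (N.index : ℂ) = ((m ψ₀ ^ 2 * (Finset.univ.filter (fun ψ => m ψ ≠ 0)).card : ℕ) : ℂ) := by
      apply mul_right_cancel₀ hθ1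
      rw [h1]
      push_cast
      ring
    have h3 : N.index = m ψ₀ ^ 2 * (Finset.univ.filter (fun ψ => m ψ ≠ 0)).card := by exact_mod_cast h2
    rw [← h3, mul_comm, N.card_mul_index]
  · conv_lhs => rw [hsum]
    rw [← Finset.sum_filter_add_sum_filter_not Finset.univ (fun ψ => m ψ ≠ 0)]
    have h2 : ∑ ψ ∈ Finset.univ.filter (fun ψ => ¬ m ψ ≠ 0), ((m ψ : ℂ) • (ψ : T → ℂ)) = 0 := by
      apply Finset.sum_eq_zero
      intro ψ hψ
      have : m ψ = 0 := by simpa using (Finset.mem_filter.1 hψ).2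
      simp [this]
    rw [h2, add_zero, Finset.smul_sum]
    apply Finset.sum_congr rfl
    intro ψ hψ
    rw [hconst ψ (Finset.mem_filter.1 hψ).2]
  · intro ψ hψ
    have hψ' := (Finset.mem_filter.1 hψ).2
    have h4 := congrFun (hres ψ hψ') 1
    simp only [Subgroup.coe_one, Pi.smul_apply, smul_eq_mul] at h4
    rw [h4, hconst ψ hψ']
  · intro ψ hψ
    rw [hm']
    exact_mod_cast (Finset.mem_filter.1 hψ).2

end Cfsg.Agent.Lib.Helper80
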