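import Cfsg.Agent.Lib.Helper80.CycTIUnique
import Cfsg.Agent.Lib.Helper76.GaloisChar

/-!
Galois twists (via power maps) of a cyclic TI family.
-/

set_option autoImplicit false

namespace Cfsg.Agent.Lib.Helper80

open Cfsg Cfsg.Agent.Lib.Helper25
open scoped ComplexConjugate

theorem hom_one_pow {X : Type*} [Group X] (n : ℕ) : (1 : X →* ℂˣ) ^ n = 1 := by
  ext; simp

theorem hom_mul_pow {X : Type*} [Group X] (φ ψ : X →* ℂˣ) (n : ℕ) :
    (φ * ψ) ^ n = φ ^ n * ψ ^ n := by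
  ext; simp [mul_pow]

theorem pow_pow_of_modEq {G : Type*} [Group G] {k k' : ℕ}
    (h : k * k' ≡ 1 [MOD Nat.card G]) (g : G) : (g ^ k) ^ k' = g := by
  rw [← pow_mul]
  conv_rhs => rw [← pow_one g]
  rw [pow_eq_pow_iff_modEq]
  exact h.of_dvd (orderOf_dvd_natCard g)

theorem classInner_comp_pow {G : Type*} [Group G] [Fintype G] {k : ℕ} (hk : k.Coprime (Nat.card G))
    (f f' : G → ℂ) : classInner (fun g => f (g ^ k)) (fun g => f' (g ^ k)) = classInner f f' := by
  unfold classInner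
  congr 1
  exact Equiv.sum_comp (powCoprime hk.symm) (fun g => f g * conj (f' g))

theorem extendByZero_pow {G : Type*} [Group G] (H : Subgroup G) {k k' : ℕ}
    (h : k * k' ≡ 1 [MOD Nat.card G]) (f : H → ℂ) (g : G) :
    extendByZero H f (g ^ k) = extendByZero H (fun w => f (w ^ k)) g := by
  unfold extendByZero
  by_cases hg : g ∈ H
  · have e1 : g ^ k = ((⟨g, hg⟩ ^ k : H) : G) := rfl
    have e2 : g = ((⟨g, hg⟩ : H) : G) := rfl
    rw [e1, Subtype.val_injective.extend_apply]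
    conv_rhs => rw [e2, Subtype.val_injective.extend_apply]
  · rw [Function.extend_apply', Function.extend_apply']
    · rfl
    · rintro ⟨a, ha⟩
      exact hg (ha ▸ a.2)
    · rintro ⟨a, ha⟩
      apply hg
      rw [← pow_pow_of_modEq h g, ← ha]
      exact H.pow_mem a.2 k'

theorem indFun_pow {G : Type*} [Group G] [Fintype G] (H : Subgroup G) {k k' : ℕ}
    (h : k * k' ≡ 1 [MOD Nat.card G]) (f : H → ℂ) (g : G) :
    indFun H f (g ^ k) = indFun H (fun w => f (w ^ k)) g := by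
  unfold indFun
  congr 1
  apply Finset.sum_congr rfl
  intro x _
  rw [← extendByZero_pow H h]
  congr 1
  have := conj_pow (a := x⁻¹) (b := g) (i := k)
  rw [inv_inv] at this
  exact this.symm

variable {G : Type*} [Group G] [Fintype G] {W₁ W₂ : Subgroup G}

omit [Fintype G] in
theorem hom_pow_apply_pow {k k' : ℕ} (h : k * k' ≡ 1 [MOD Nat.card G]) {H : Subgroup G}
    (ω : H →* ℂˣ) (w : H) : (ω ^ k') (w ^ k) = ω w := by
  rw [MonoidHom.pow_apply, ← map_pow]
  congr 1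
  apply Subtype.ext
  exact pow_pow_of_modEq h (w : G)

theorem twist_family {χ : (↥(W₁ ⊔ W₂) →* ℂˣ) → (G → ℂ)} (hχ : IsCyclicTIFamily W₁ W₂ χ)
    {k k' : ℕ} (h : k * k' ≡ 1 [MOD Nat.card G]) :
    IsCyclicTIFamily W₁ W₂ (fun ω g => χ (ω ^ k') (g ^ k)) := by
  classical
  have hk : k.Coprime (Nat.card G) := Nat.coprime_of_mul_modEq_one k' h
  have hinj : ∀ ω ω' : ↥(W₁ ⊔ W₂) →* ℂˣ, ω ^ k' = ω' ^ k' → ω = ω' := by
    intro ω ω' he
    ext w
    rw [← hom_pow_apply_pow h ω w, ← hom_pow_apply_pow h ω' w, he]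
  refine ⟨?_, ?_, ?_, ?_, ?_⟩
  · intro ω
    rcases hχ.irr_or_neg (ω ^ k') with h1 | h1
    · left; exact Cfsg.Agent.Lib.Helper76.isIrrCharacter_pow_coprime h1 hk
    · right; exact Cfsg.Agent.Lib.Helper76.isIrrCharacter_pow_coprime h1 hk
  · intro ω ω'
    rw [classInner_comp_pow hk, hχ.orthonormal]
    by_cases he : ω = ω'
    · rw [if_pos he, if_pos (by rw [he])]
    · rw [if_neg he, if_neg (fun h' => he (hinj _ _ h'))]
  · funext g
    rw [hom_one_pow, hχ.map_one]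
  · intro ω w h1 h2
    have e : (w : G) ^ k = ((w ^ k : ↥(W₁ ⊔ W₂)) : G) := rfl
    rw [e, hχ.eq_on, hom_pow_apply_pow h]
    · intro hh
      apply h1
      rw [← pow_pow_of_modEq h (w : G)]
      exact W₁.pow_mem hh k'
    · intro hh
      apply h2
      rw [← pow_pow_of_modEq h (w : G)]
      exact W₂.pow_mem hh k'
  · intro φ ψ h1 h2 h3 h4
    have h1' : φ ^ k' ≠ 1 := fun hh => h1 (hinj _ _ (by rw [hh, hom_one_pow]))
    have h2' : ψ ^ k' ≠ 1 := fun hh => h2 (hinj _ _ (by rw [hh, hom_one_pow]))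
    have := hχ.induced_eq (φ ^ k') (ψ ^ k') h1' h2'
      (fun w hw => by rw [MonoidHom.pow_apply, h3 w hw, one_pow])
      (fun w hw => by rw [MonoidHom.pow_apply, h4 w hw, one_pow])
    funext g
    have e := congrFun this (g ^ k)
    rw [indFun_pow _ h] at e
    simp only [hom_pow_apply_pow h] at e
    rw [e, hom_mul_pow]

/-- Galois equivariance of a cyclic TI family. -/
theorem family_pow (hW : IsSelfNormalizingCyclic W₁ W₂) (hodd : Odd (Nat.card ↥(W₁ ⊔ W₂)))
    {χ : (↥(W₁ ⊔ W₂) →* ℂˣ) → (G → ℂ)} (hχ : IsCyclicTIFamily W₁ W₂ χ)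
    {k k' : ℕ} (h : k * k' ≡ 1 [MOD Nat.card G]) (ω : ↥(W₁ ⊔ W₂) →* ℂˣ) (g : G) :
    χ (ω ^ k') (g ^ k) = χ ω g :=
  congrFun (congrFun (family_unique hW hodd (twist_family hχ h) hχ) ω) g

end Cfsg.Agent.Lib.Helper80
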