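import Cfsg.Agent.Lib.Helper76.OddIndexReal
import Cfsg.Agent.Lib.Helper76.GaloisChar
import Cfsg.Agent.Lib.Helper15.Gallagher
import Cfsg.Agent.Lib.Helper15.Relative
import Cfsg.Agent.Lib.Helper80.Linear
import Cfsg.Agent.Lib.Helper80.CycTITwist
import Cfsg.Agent.Lib.Helper29.NormalSeries
import Cfsg.Agent.S0886
import Cfsg.Agent.S0888

/-!
Characters fixed by a Galois automorphism inverting the roots of unity of odd order, over normal
subgroups of odd index.
-/

set_option autoImplicit false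

namespace Cfsg.Agent.Lib.Helper80

open Cfsg Cfsg.Agent.Lib.Helper15
open scoped ComplexConjugate

universe u

/-- the hypotheses on the exponent `k`. -/
def KHyp (G : Type*) [Group G] (k : ℕ) : Prop :=
  Nat.Coprime k (Nat.card G) ∧ ∀ g : G, Odd (orderOf g) → g ^ k = g⁻¹

/-- `f` is fixed by the power map. -/
def Fixk {G : Type*} [Group G] (k : ℕ) (f : G → ℂ) : Prop := ∀ g : G, f (g ^ k) = f g

theorem KHyp.subgroup {G : Type*} [Group G] {k : ℕ} (h : KHyp G k) (H : Subgroup G) :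
    KHyp H k := by
  refine ⟨h.1.coprime_dvd_right (Subgroup.card_subgroup_dvd_card H), fun g hg => ?_⟩
  apply Subtype.ext
  rw [Subgroup.coe_pow, Subgroup.coe_inv]
  apply h.2
  rwa [Subgroup.orderOf_coe]

/-- images of odd order are inverted. -/
theorem KHyp.map_pow_succ {G : Type*} [Group G] [Finite G] {k : ℕ} (h : KHyp G k) {A : Type*} [Group A]
    (f : G →* A) (g : G) (r : ℕ) (hr : Odd r) (hfr : f g ^ r = 1) : f g ^ (k + 1) = 1 := by
  obtain ⟨a, m, hm, ho⟩ := Nat.exists_eq_two_pow_mul_odd (orderOf_pos g).ne'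
  have h1 : orderOf (g ^ 2 ^ a) = m := by
    rw [orderOf_pow, ho, Nat.gcd_eq_right (Dvd.intro _ rfl), Nat.mul_div_cancel_left _ (by positivity)]
  have h2 := h.2 (g ^ 2 ^ a) (h1 ▸ hm)
  have h3 : (g ^ 2 ^ a) ^ (k + 1) = 1 := by rw [pow_succ, h2, inv_mul_cancel]
  have h4 : (f g ^ (k + 1)) ^ 2 ^ a = 1 := by
    rw [← pow_mul, mul_comm, pow_mul, ← map_pow, ← map_pow, h3, map_one]
  have h5 : (f g ^ (k + 1)) ^ r = 1 := by
    rw [← pow_mul, mul_comm, pow_mul, hfr, one_pow]
  have h6 : orderOf (f g ^ (k + 1)) ∣ Nat.gcd (2 ^ a) r :=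
    Nat.dvd_gcd (orderOf_dvd_of_pow_eq_one h4) (orderOf_dvd_of_pow_eq_one h5)
  have h7 : Nat.gcd (2 ^ a) r = 1 := Nat.Coprime.pow_left a (Nat.coprime_two_left.mpr hr)
  rw [h7, Nat.dvd_one, orderOf_eq_one_iff] at h6
  exact h6

section main

variable {G : Type u} [Group G] [Fintype G] (N : Subgroup G) [hN : N.Normal]

theorem quot_pow_eq_inv {k : ℕ} (h : KHyp G k) (hodd : Odd N.index) (q : G ⧸ N) : q ^ k = q⁻¹ := by
  obtain ⟨g, rfl⟩ := QuotientGroup.mk_surjective q
  have := h.map_pow_succ (QuotientGroup.mk' N) g N.index hodd (by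
    rw [Subgroup.index_eq_card]; exact pow_card_eq_one')
  rw [pow_succ] at this
  exact eq_inv_of_mul_eq_one_left this

theorem defl_pow {k : ℕ} (hk : Nat.Coprime k (Nat.card G)) {Φ : G → ℂ} (hΦ : Fixk k Φ) (q : G ⧸ N) :
    defl N Φ (q ^ k) = defl N Φ q := by
  classical
  unfold defl
  congr 1
  rw [Finset.sum_filter, Finset.sum_filter]
  rw [← Equiv.sum_comp (powCoprime hk.symm)]
  apply Finset.sum_congr rfl
  intro g _
  have hkQ : Nat.Coprime (Nat.card (G ⧸ N)) k := by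
    rw [← Subgroup.index_eq_card]
    exact (hk.coprime_dvd_right (Subgroup.index_dvd_card N)).symm
  have e1 : (((powCoprime hk.symm) g : G) : G ⧸ N) = q ^ k ↔ (g : G ⧸ N) = q := by
    rw [powCoprime_apply, QuotientGroup.mk_pow]
    constructor
    · intro hh
      exact (powCoprime hkQ).injective hh
    · intro hh; rw [hh]
  by_cases hq : (g : G ⧸ N) = q
  · rw [if_pos hq, if_pos (e1.2 hq), powCoprime_apply, hΦ]
  · rw [if_neg hq, if_neg (fun hh => hq (e1.1 hh))]

/-- uniqueness of the fixed character over a given character. -/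
theorem fix_unique [Fintype N] {k : ℕ} (h : KHyp G k) (hodd : Odd N.index) (θ : IrrCharacter N)
    (χ₁ χ₂ : IrrCharacter G)
    (h₁ : classInner (fun n : N => (χ₁ : G → ℂ) n) (θ : N → ℂ) ≠ 0)
    (h₂ : classInner (fun n : N => (χ₂ : G → ℂ) n) (θ : N → ℂ) ≠ 0)
    (f₁ : Fixk k (χ₁ : G → ℂ)) (f₂ : Fixk k (χ₂ : G → ℂ)) : χ₁ = χ₂ := by
  apply Cfsg.Agent.Lib.Helper76.eq_of_over_of_defl_real N hodd θ χ₁ χ₂ h₁ h₂
  intro q
  have hΦc : IsCharacter G (fun g => (χ₁ : G → ℂ) g * conj ((χ₂ : G → ℂ) g)) :=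
    Cfsg.Agent.Lib.Helper3.IsCharacter.mul (irr_char χ₁.2)
      (Cfsg.Agent.Lib.Helper3.IsCharacter.conj (irr_char χ₂.2))
  have hD := isCharacter_defl N hΦc
  rw [← Cfsg.Agent.Lib.Helper3.IsCharacter.apply_inv hD, ← quot_pow_eq_inv N h hodd, defl_pow N h.1]
  intro g
  simp only
  rw [f₁ g, f₂ g]

/-- if a fixed character extends, it has a fixed extension. -/
theorem exists_fix_extension_of_extension [Fintype N] {k : ℕ} (h : KHyp G k) (hodd : Odd N.index)
    {χ₀ : G → ℂ} (hχ₀ : IsIrrCharacter G χ₀) (hθ : IsIrrCharacter N (fun n : N => χ₀ n))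
    (hfix : Fixk k (fun n : N => χ₀ n)) :
    ∃ χ : G → ℂ, IsIrrCharacter G χ ∧ Fixk k χ ∧ ∀ n : N, χ n = χ₀ n := by
  have hg := gallagher N hχ₀ hθ
  have hσ : IsIrrCharacter G (fun g => χ₀ (g ^ k)) :=
    Cfsg.Agent.Lib.Helper76.isIrrCharacter_pow_coprime hχ₀ h.1
  have hσN : (fun n : N => χ₀ ((n : G) ^ k)) = fun n : N => χ₀ n := funext hfix
  have hmem : (fun g => χ₀ (g ^ k)) ∈ {ψ : G → ℂ | IsIrrCharacter G ψ ∧
      classInner (fun n : N => ψ n) (fun n : N => χ₀ n) ≠ 0} := by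
    refine ⟨hσ, ?_⟩
    simp only [hσN]
    rw [Cfsg.Agent.Lib.Helper3.classInner_irr_self hθ]
    exact one_ne_zero
  obtain ⟨β, ⟨hβ, hβN⟩, hβχ⟩ := hg.surjOn hmem
  have hβ1 : β 1 = 1 := by
    have := congrFun hβχ 1
    simp only [Pi.mul_apply, one_pow] at this
    exact mul_right_cancel₀ (irr_one_ne_zero hχ₀) (this.trans (one_mul _).symm)
  obtain ⟨μ, hμ⟩ := exists_hom_of_degree_one (irr_char hβ) hβ1
  have hμN : ∀ n : N, μ n = 1 := by
    intro n
    have := (restrict_eq_of_inner_one_ne_zero N hβ hβN).2 n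
    rw [hβ1, hμ] at this
    exact Units.ext this
  obtain ⟨c, hc⟩ := hodd
  have hμr : ∀ g : G, μ g ^ N.index = 1 := by
    intro g
    rw [← map_pow]
    have : g ^ N.index ∈ N := by
      rw [← QuotientGroup.eq_one_iff, QuotientGroup.mk_pow, Subgroup.index_eq_card]
      exact pow_card_eq_one'
    exact hμN ⟨_, this⟩
  -- the square root of `μ`
  let l : G →* ℂˣ := μ ^ (c + 1)
  have hl : ∀ g, l g = μ g ^ (c + 1) := fun g => rfl
  have hl2 : ∀ g, l g * l g = μ g := by
    intro g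
    rw [hl, ← pow_add]
    have : c + 1 + (c + 1) = N.index + 1 := by omega
    rw [this, pow_succ, hμr, one_mul]
  have hlr : ∀ g, l g ^ N.index = 1 := by
    intro g
    rw [hl, ← pow_mul, mul_comm, pow_mul, hμr, one_pow]
  have hlk : ∀ g, l g ^ (k + 1) = 1 := fun g =>
    h.map_pow_succ l g N.index ⟨c, hc⟩ (hlr g)
  have hlN : ∀ n : N, l n = 1 := fun n => by rw [hl, hμN, one_pow]
  have hlmem : (fun g => ((l g : ℂˣ) : ℂ)) ∈ {β : G → ℂ | IsIrrCharacter G β ∧
      classInner (fun n : N => β n) (fun _ => 1) ≠ 0} := by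
    refine ⟨Cfsg.Agent.Lib.Helper74.isIrrCharacter_of_hom l, ?_⟩
    have : (fun n : N => ((l (n : G) : ℂˣ) : ℂ)) = fun _ => 1 := by
      funext n; rw [hlN, Units.val_one]
    simp only [this]
    rw [Cfsg.Agent.Lib.Helper3.classInner_irr_self irr_one]
    exact one_ne_zero
  refine ⟨_, (hg.mapsTo hlmem).1, ?_, ?_⟩
  · intro g
    simp only [Pi.mul_apply]
    have e1 : χ₀ (g ^ k) = (μ g : ℂ) * χ₀ g := by
      have := congrFun hβχ g
      simp only [Pi.mul_apply] at this
      rw [← this, hμ]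
    rw [e1, map_pow, ← hl2 g, ← mul_assoc]
    congr 1
    rw [← Units.val_mul, ← mul_assoc, ← pow_succ, hlk, one_mul]
  · intro n
    simp only [Pi.mul_apply]
    rw [hlN, Units.val_one, one_mul]

end main


section rel

variable {G : Type u} [Group G] [Fintype G] (N : Subgroup G) [hN : N.Normal]

omit [Fintype G] in
theorem odd_relIndex (hodd : Odd N.index) (M : Subgroup G) : Odd (N.relIndex M) :=
  Odd.of_dvd_nat hodd (Subgroup.relIndex_dvd_index_of_normal N M)

/-- relative uniqueness. -/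
theorem rel_fix_unique {k : ℕ} (h : KHyp G k) (hodd : Odd N.index) {M : Subgroup G} (hNM : N ≤ M)
    {θ : N → ℂ} (hθ : IsIrrCharacter N θ) {η₁ η₂ : M → ℂ} (h₁ : IsIrrCharacter M η₁)
    (h₂ : IsIrrCharacter M η₂) (r₁ : resFun hNM η₁ = θ) (r₂ : resFun hNM η₂ = θ)
    (f₁ : Fixk k η₁) (f₂ : Fixk k η₂) : η₁ = η₂ := by
  have := Fintype.ofFinite M
  have := Fintype.ofFinite (N.subgroupOf M)
  have hθ' := irr_downFun hNM hθ
  have key : ∀ {η : M → ℂ}, resFun hNM η = θ →
      classInner (fun n : N.subgroupOf M => η n) (downFun N M θ) ≠ 0 := by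
    intro η hη
    have : (fun n : N.subgroupOf M => η n) = downFun N M θ := by rw [← hη]; rfl
    rw [this, Cfsg.Agent.Lib.Helper3.classInner_irr_self hθ']
    exact one_ne_zero
  have := fix_unique (N.subgroupOf M) (h.subgroup M) (odd_relIndex N hodd M) ⟨_, hθ'⟩ ⟨η₁, h₁⟩ ⟨η₂, h₂⟩
    (key r₁) (key r₂) f₁ f₂
  exact congrArg Subtype.val this

omit [Fintype G] hN in
theorem fixk_downFun {k : ℕ} {M : Subgroup G} {θ : N → ℂ} (hf : Fixk k θ) :
    Fixk k (downFun N M θ) := by
  intro x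
  exact hf ⟨((x : M) : G), Subgroup.mem_subgroupOf.mp x.2⟩

omit [Fintype G] in
theorem cj_downFun {M : Subgroup G} {θ : N → ℂ} (hinv : ∀ g ∈ M, cj N g θ = θ) (g : M)
    (n : N.subgroupOf M) :
    downFun N M θ ⟨g * n * g⁻¹, (inferInstance : (N.subgroupOf M).Normal).conj_mem n n.2 g⟩ =
      downFun N M θ n :=
  congrFun (hinv g g.2) ⟨((n : M) : G), Subgroup.mem_subgroupOf.mp n.2⟩

/-- relative existence for cyclic quotients. -/
theorem rel_exists_cyclic {k : ℕ} (h : KHyp G k) (hodd : Odd N.index) {M : Subgroup G} (hNM : N ≤ M)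
    (hcyc : IsCyclic (M ⧸ N.subgroupOf M))
    {θ : N → ℂ} (hθ : IsIrrCharacter N θ) (hinv : ∀ g ∈ M, cj N g θ = θ) (hf : Fixk k θ) :
    ∃ η : M → ℂ, IsIrrCharacter M η ∧ Fixk k η ∧ resFun hNM η = θ := by
  have := Fintype.ofFinite M
  have := Fintype.ofFinite (N.subgroupOf M)
  have hθ' := irr_downFun hNM hθ
  obtain ⟨χ₀, hχ₀, hres⟩ := Cfsg.Agent.S0886.result (N.subgroupOf M) hcyc (downFun N M θ) hθ'
    (cj_downFun N hinv)
  have e : (fun n : N.subgroupOf M => χ₀ n) = downFun N M θ := funext hres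
  obtain ⟨χ, hχ, hfχ, hχres⟩ := exists_fix_extension_of_extension (N.subgroupOf M) (h.subgroup M)
    (odd_relIndex N hodd M) hχ₀ (e ▸ hθ') (e ▸ fixk_downFun N hf)
  refine ⟨χ, hχ, hfχ, ?_⟩
  funext n
  have := hχres ⟨⟨(n : G), hNM n.2⟩, Subgroup.mem_subgroupOf.2 n.2⟩
  rw [hres] at this
  exact this

omit [Fintype G] in
theorem fixk_cj {k : ℕ} {θ : N → ℂ} (hf : Fixk k θ) (g : G) : Fixk k (cj N g θ) := by
  intro x
  rw [cj_apply, cj_apply]
  have := hf ⟨g * x * g⁻¹, hN.conj_mem x x.2 g⟩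
  rw [← this]
  congr 1
  apply Subtype.ext
  simp only [Subgroup.coe_pow]
  exact (conj_pow (a := g) (b := (x : G)) (i := k)).symm

end rel

/-- fixed extensions when the quotient is a `p`-group. -/
theorem exists_fix_extension_pgroup {G : Type u} [Group G] [Fintype G] {k : ℕ} (h : KHyp G k) (p : ℕ)
    [hp : Fact p.Prime] : ∀ (n : ℕ) (N : Subgroup G) [N.Normal], N.index = p ^ n → Odd N.index →
      ∀ θ : N → ℂ, IsIrrCharacter N θ → (∀ g : G, cj N g θ = θ) → Fixk k θ →
      ∃ χ : G → ℂ, IsIrrCharacter G χ ∧ Fixk k χ ∧ ∀ x : N, χ x = θ x := by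
  intro n
  induction n with
  | zero =>
    intro N _ hidx _ θ hθ _ hf
    obtain rfl : N = ⊤ := Subgroup.index_eq_one.1 (by simpa using hidx)
    refine ⟨θ ∘ Subgroup.topEquiv.symm, irr_comp_equiv _ hθ, ?_, fun x => rfl⟩
    intro g
    exact hf (Subgroup.topEquiv.symm g)
  | succ n ih =>
    intro N _ hidx hodd θ hθ hinv hf
    have hQcard : Nat.card (G ⧸ N) = p ^ (n + 1) := by rw [← Subgroup.index_eq_card, hidx]
    have hQ : IsPGroup p (G ⧸ N) := IsPGroup.of_card hQcard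
    obtain ⟨L, -, hLn, hLcard⟩ := Cfsg.Agent.Lib.Helper29.exists_normal_le_of_card hQ 1 _ ⊤
      inferInstance rfl (by
        rw [Subgroup.card_top, hQcard]
        exact Nat.pow_le_pow_right hp.out.pos (by omega))
    rw [pow_one] at hLcard
    set M : Subgroup G := L.comap (QuotientGroup.mk' N) with hM
    have hMn : M.Normal := hLn.comap _
    have hNM : N ≤ M := QuotientGroup.le_comap_mk' N L
    have hMidx : M.index = p ^ n := by
      rw [hM, Subgroup.index_comap_of_surjective L (QuotientGroup.mk'_surjective N)]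
      have := L.index_mul_card
      rw [hLcard, hQcard, pow_succ] at this
      exact Nat.eq_of_mul_eq_mul_right hp.out.pos this
    have hrel : N.relIndex M = p := by
      have := Subgroup.relIndex_mul_index hNM
      rw [hMidx, hidx, pow_succ, mul_comm] at this
      exact Nat.eq_of_mul_eq_mul_left (pow_pos hp.out.pos n) this
    have hcyc : IsCyclic (M ⧸ N.subgroupOf M) := by
      apply isCyclic_of_prime_card (p := p)
      rw [← Subgroup.index_eq_card]
      exact hrel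
    obtain ⟨η, hη, hfη, hηres⟩ := rel_exists_cyclic N h hodd hNM hcyc hθ (fun g _ => hinv g) hf
    have hηinv : ∀ g : G, cj M g η = η := by
      intro g
      refine rel_fix_unique N h hodd hNM hθ (irr_cj M g hη) hη ?_ hηres (fixk_cj M hfη g) hfη
      funext x
      have e1 := congrFun (hinv g) x
      rw [cj_apply] at e1
      rw [← e1, ← hηres]
      rfl
    have hModd : Odd M.index := Odd.of_dvd_nat hodd (Subgroup.index_dvd_of_le hNM)
    obtain ⟨χ, hχ, hfχ, hχres⟩ := ih M hMidx hModd η hη hηinv hfη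
    refine ⟨χ, hχ, hfχ, fun x => ?_⟩
    rw [← hηres]
    exact hχres ⟨(x : G), hNM x.2⟩

section final

variable {G : Type u} [Group G] [Fintype G] (N : Subgroup G) [hN : N.Normal]

/-- an invariant fixed character of a normal subgroup of odd index has a fixed extension. -/
theorem exists_fix_extension {k : ℕ} (h : KHyp G k) (hodd : Odd N.index) {θ : N → ℂ}
    (hθ : IsIrrCharacter N θ) (hinv : ∀ g : G, cj N g θ = θ) (hf : Fixk k θ) :
    ∃ χ : G → ℂ, IsIrrCharacter G χ ∧ Fixk k χ ∧ ∀ x : N, χ x = θ x := by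
  have := Fintype.ofFinite N
  obtain ⟨χ₀, hχ₀, hres⟩ := Cfsg.Agent.S0888.result N θ hθ (fun g n => congrFun (hinv g) n) (by
    intro p hp
    have : Fact p.Prime := ⟨hp⟩
    let S : Sylow p (G ⧸ N) := default
    set P : Subgroup G := (S : Subgroup (G ⧸ N)).comap (QuotientGroup.mk' N) with hP
    have hNP : N ≤ P := QuotientGroup.le_comap_mk' N _
    have hPidx : P.index = (S : Subgroup (G ⧸ N)).index := by
      rw [hP, Subgroup.index_comap_of_surjective _ (QuotientGroup.mk'_surjective N)]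
    obtain ⟨j, hj⟩ := IsPGroup.iff_card.1 S.2
    have hrel : N.relIndex P = p ^ j := by
      have h1 := Subgroup.relIndex_mul_index hNP
      have h2 := (S : Subgroup (G ⧸ N)).card_mul_index
      rw [hPidx, Subgroup.index_eq_card N, ← h2, hj] at h1
      exact Nat.eq_of_mul_eq_mul_right (Nat.pos_of_ne_zero (Subgroup.index_ne_zero_of_finite)) h1
    have := Fintype.ofFinite P
    obtain ⟨η, hη, -, hηres⟩ := exists_fix_extension_pgroup (h.subgroup P) p j (N.subgroupOf P) hrel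
      (odd_relIndex N hodd P) (downFun N P θ) (irr_downFun hNP hθ)
      (fun g => funext (fun n => cj_downFun N (fun g _ => hinv g) g n)) (fixk_downFun N hf)
    refine ⟨P, hNP, η, ?_, ⟨j, hrel⟩, hη, fun n => ?_⟩
    · rw [hPidx]
      exact ((Nat.Prime.coprime_iff_not_dvd hp).2 S.not_dvd_index).symm
    · exact hηres ⟨⟨(n : G), hNP n.2⟩, Subgroup.mem_subgroupOf.2 n.2⟩)
  have e : (fun n : N => χ₀ n) = θ := funext hres
  obtain ⟨χ, hχ, hfχ, hχres⟩ := exists_fix_extension_of_extension N h hodd hχ₀ (e ▸ hθ) (e ▸ hf)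
  exact ⟨χ, hχ, hfχ, fun x => (hχres x).trans (hres x)⟩

/-- a fixed character of a normal subgroup of odd index lies under a fixed character. -/
theorem exists_fix_over [Fintype N] {k : ℕ} (h : KHyp G k) (hodd : Odd N.index) {θ : N → ℂ}
    (hθ : IsIrrCharacter N θ) (hf : Fixk k θ) :
    ∃ χ : G → ℂ, IsIrrCharacter G χ ∧ Fixk k χ ∧ classInner (fun n : N => χ n) θ ≠ 0 := by
  set I := inertia N θ with hI
  have hNI : N ≤ I := le_inertia N (irr_cf hθ)
  have := Fintype.ofFinite I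
  obtain ⟨ψ, hψ, hfψ, hψres⟩ := exists_fix_extension (N.subgroupOf I) (h.subgroup I)
    (odd_relIndex N hodd I) (irr_downFun hNI hθ)
    (fun g => funext (fun n => cj_downFun N (fun g hg => (mem_inertia N θ g).1 hg) g n))
    (fixk_downFun N hf)
  have hres : resFun hNI ψ = θ := by
    funext n
    exact hψres ⟨⟨(n : G), hNI n.2⟩, Subgroup.mem_subgroupOf.2 n.2⟩
  have hne : classInner (resFun hNI ψ) θ ≠ 0 := by
    rw [hres, Cfsg.Agent.Lib.Helper3.classInner_irr_self hθ]
    exact one_ne_zero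
  have hcc := clifford_correspondence N hθ I (fun g => mem_inertia N θ g) hNI
  obtain ⟨k', -, hk'⟩ := Nat.exists_mul_mod_eq_of_coprime 1 h.1 (Nat.card_pos (α := G)).ne'
  refine ⟨indFun I ψ, hcc.1 ψ hψ hne, ?_, ?_⟩
  · intro g
    rw [indFun_pow I (k' := k') hk']
    congr 1
    exact funext hfψ
  · rw [hcc.2.2.1 ψ hψ hne]
    exact hne

end final

end Cfsg.Agent.Lib.Helper80
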