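import Mathlib

/-! Class sizes. -/

set_option autoImplicit false

namespace Cfsg.Agent.Lib.Helper80

variable {G : Type*} [Group G] [Finite G]

omit [Finite G] in
theorem card_conj_mul_card_centralizer (g : G) :
    Nat.card {x : G // IsConj g x} * Nat.card (Subgroup.centralizer ({g} : Set G)) =
      Nat.card G := by
  classical
  rw [Subgroup.nat_card_centralizer_nat_card_stabilizer]
  have e := MulAction.orbitProdStabilizerEquivGroup (ConjAct G) g
  have h1 : Nat.card (MulAction.orbit (ConjAct G) g × MulAction.stabilizer (ConjAct G) g) =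
      Nat.card (ConjAct G) := Nat.card_congr e
  rw [Nat.card_prod] at h1
  have h2 : Nat.card (MulAction.orbit (ConjAct G) g) = Nat.card {x : G // IsConj g x} := by
    apply Nat.card_congr
    apply Equiv.subtypeEquivRight
    intro x
    rw [ConjAct.mem_orbit_conjAct, isConj_comm]
  rw [← h2, h1]
  rfl

omit [Finite G] in
theorem card_conj_dvd_card (g : G) : Nat.card {x : G // IsConj g x} ∣ Nat.card G :=
  Dvd.intro _ (card_conj_mul_card_centralizer g)

end Cfsg.Agent.Lib.Helper80
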