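import Mathlib
import Cfsg.Agent.Lib.Helper80.Quot
import Cfsg.Agent.Lib.Helper80.Coset
import Cfsg.Agent.Lib.Helper80.ClassSize

/-! Irreducible characters that are nonzero on exactly two conjugacy classes (Gagola). -/

set_option autoImplicit false

namespace Cfsg.Agent.Lib.Helper80

open Cfsg.Agent.Lib.Helper74
open scoped ComplexConjugate

section
variable {G : Type*} [Group G] [Finite G]

omit [Finite G] in
theorem char_eq_of_isConj {χ : G → ℂ} (h : IsCharacter G χ) {a b : G}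
    (hab : IsConj a b) : χ a = χ b := by
  obtain ⟨c, hc⟩ := isConj_iff.1 hab
  rw [← hc, isClassFunction_of_char h]

omit [Finite G] in
/-- From the counting hypothesis to a representative of the second class. -/
theorem gagola_exists_rep (χ : IrrCharacter G)
    (hχ : Nat.card {C : ConjClasses G // ∃ g ∈ C.carrier, (χ : G → ℂ) g ≠ 0} = 2) :
    ∃ g₀ : G, g₀ ≠ 1 ∧ ∀ x, (χ : G → ℂ) x ≠ 0 ↔ x = 1 ∨ IsConj g₀ x := by
  have hc := isCharacter_of_irr χ.2
  have h1 : (χ : G → ℂ) 1 ≠ 0 := char_one_ne_zero_of_irr χ.2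
  let c1 : {C : ConjClasses G // ∃ g ∈ C.carrier, (χ : G → ℂ) g ≠ 0} :=
    ⟨ConjClasses.mk 1, 1, ConjClasses.mem_carrier_mk, h1⟩
  obtain ⟨⟨C, g₀, hg₀C, hg₀⟩, hne, huniq⟩ := (Nat.card_eq_two_iff' c1).1 hχ
  have hC : ConjClasses.mk g₀ = C := ConjClasses.mem_carrier_iff_mk_eq.1 hg₀C
  refine ⟨g₀, ?_, fun x => ⟨fun hx => ?_, ?_⟩⟩
  · rintro rfl
    exact hne (Subtype.ext hC.symm)
  · by_cases hx1 : x = 1
    · exact Or.inl hx1
    · right
      have := huniq ⟨ConjClasses.mk x, x, ConjClasses.mem_carrier_mk, hx⟩ (by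
        intro h
        have h2 : ConjClasses.mk x = ConjClasses.mk 1 := congrArg Subtype.val h
        rw [ConjClasses.mk_eq_mk_iff_isConj, isConj_one_left] at h2
        exact hx1 h2)
      have h3 : ConjClasses.mk x = C := congrArg Subtype.val this
      rw [← hC, ConjClasses.mk_eq_mk_iff_isConj] at h3
      exact h3.symm
  · rintro (rfl | hx)
    · exact h1
    · rw [← char_eq_of_isConj hc hx]; exact hg₀

omit [Finite G] in
theorem gagola_sum [Fintype G] {g₀ : G} (hg₀ : g₀ ≠ 1) (F : G → ℂ)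
    (hF : ∀ x, IsConj g₀ x → F x = F g₀) (hF0 : ∀ x, x ≠ 1 → ¬ IsConj g₀ x → F x = 0) :
    ∑ x, F x = F 1 + (Nat.card {x : G // IsConj g₀ x} : ℂ) * F g₀ := by
  classical
  have hpt : ∀ x, F x = (if x = 1 then F 1 else 0) + (if IsConj g₀ x then F g₀ else 0) := by
    intro x
    by_cases hx : x = 1
    · subst hx
      have : ¬ IsConj g₀ 1 := by
        rw [isConj_one_left]; exact hg₀
      rw [if_pos rfl, if_neg this, add_zero]
    · by_cases hc : IsConj g₀ x
      · rw [if_neg hx, if_pos hc, zero_add, hF x hc]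
      · rw [if_neg hx, if_neg hc, zero_add, hF0 x hx hc]
  rw [Finset.sum_congr rfl (fun x _ => hpt x), Finset.sum_add_distrib, Finset.sum_ite_eq']
  simp only [Finset.mem_univ, if_true]
  rw [Finset.sum_ite, Finset.sum_const, Finset.sum_const_zero, add_zero, nsmul_eq_mul,
    Nat.card_eq_fintype_card, Fintype.card_subtype]

end

section
variable {G : Type*} [Group G] [Finite G] (χ : IrrCharacter G) {g₀ : G} (hg₀ : g₀ ≠ 1)
  (hsupp : ∀ x, (χ : G → ℂ) x ≠ 0 ↔ x = 1 ∨ IsConj g₀ x)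

include hg₀ hsupp

/-- Row orthogonality in the two-class situation. -/
theorem gagola_row (ψ : IrrCharacter G) (hψ : ψ ≠ χ) :
    (χ : G → ℂ) 1 * (ψ : G → ℂ) 1 +
      (Nat.card {x : G // IsConj g₀ x} : ℂ) * ((χ : G → ℂ) g₀ * conj ((ψ : G → ℂ) g₀)) = 0 := by
  classical
  have : Fintype G := Fintype.ofFinite G
  have h0 := classInner_irr_ne (Ne.symm hψ)
  unfold classInner at h0
  have hcard : ((Nat.card G : ℂ))⁻¹ ≠ 0 := by
    apply inv_ne_zero
    exact_mod_cast Nat.card_pos.ne'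
  have h1 := (mul_eq_zero.1 h0).resolve_left hcard
  have hcχ := isCharacter_of_irr χ.2
  have hcψ := isCharacter_of_irr ψ.2
  rw [gagola_sum hg₀ (fun x => (χ : G → ℂ) x * conj ((ψ : G → ℂ) x))] at h1
  · rw [← h1]
    congr 2
    rw [char_one_eq_charDegree hcψ]; simp
  · intro x hx
    rw [char_eq_of_isConj hcχ hx, char_eq_of_isConj hcψ hx]
  · intro x hx1 hx2
    have : (χ : G → ℂ) x = 0 := by
      by_contra h
      rcases (hsupp x).1 h with h | h
      · exact hx1 h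
      · exact hx2 h
    simp [this]

/-- The trivial character as an element of `IrrCharacter G`. -/
def trivIrr (G : Type*) [Group G] : IrrCharacter G := ⟨fun _ => 1, isIrrCharacter_one⟩

theorem gagola_ne_triv (hG : 2 < Nat.card G) : trivIrr G ≠ χ := by
  classical
  have : Fintype G := Fintype.ofFinite G
  intro h
  have hall : ∀ x : G, x = 1 ∨ IsConj g₀ x := by
    intro x
    apply (hsupp x).1
    rw [← h]
    exact one_ne_zero
  have h1 := gagola_sum hg₀ (fun _ => (1 : ℂ)) (fun _ _ => rfl) (fun x hx1 hx2 => by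
    rcases hall x with h | h
    · exact absurd h hx1
    · exact absurd h hx2)
  simp only [Finset.sum_const, Finset.card_univ, nsmul_eq_mul, mul_one] at h1
  rw [← Nat.card_eq_fintype_card] at h1
  have h2 : Nat.card G = 1 + Nat.card {x : G // IsConj g₀ x} := by exact_mod_cast h1
  have h3 := card_conj_dvd_card g₀
  rw [h2] at h3
  have h4 : Nat.card {x : G // IsConj g₀ x} ∣ 1 := (Nat.dvd_add_left (dvd_refl _)).1 h3
  have h5 := Nat.dvd_one.1 h4
  omega

theorem gagola_val (hG : 2 < Nat.card G) :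
    (χ : G → ℂ) 1 + (Nat.card {x : G // IsConj g₀ x} : ℂ) * (χ : G → ℂ) g₀ = 0 := by
  have h := gagola_row χ hg₀ hsupp (trivIrr G) (gagola_ne_triv χ hg₀ hsupp hG)
  simpa [trivIrr] using h

/-- Every other irreducible character has `g₀` in its kernel. -/
theorem gagola_other_ker (hG : 2 < Nat.card G) (ψ : IrrCharacter G) (hψ : ψ ≠ χ) :
    (ψ : G → ℂ) g₀ = (ψ : G → ℂ) 1 := by
  have h1 := gagola_row χ hg₀ hsupp ψ hψ
  have h2 := gagola_val χ hg₀ hsupp hG
  have h3 : (χ : G → ℂ) 1 * ((ψ : G → ℂ) 1 - conj ((ψ : G → ℂ) g₀)) = 0 := by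
    linear_combination h1 - conj ((ψ : G → ℂ) g₀) * h2
  have h4 := (mul_eq_zero.1 h3).resolve_left (char_one_ne_zero_of_irr χ.2)
  have h5 : conj ((ψ : G → ℂ) g₀) = (ψ : G → ℂ) 1 := (sub_eq_zero.1 h4).symm
  have h6 := congrArg conj h5
  rw [Complex.conj_conj, char_one_eq_charDegree (isCharacter_of_irr ψ.2)] at h6
  rw [h6, char_one_eq_charDegree (isCharacter_of_irr ψ.2)]
  simp

/-- `χ` is faithful. -/
theorem gagola_faithful (hG : 2 < Nat.card G) (x : G) (hx : (χ : G → ℂ) x = (χ : G → ℂ) 1) :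
    x = 1 := by
  by_contra hx1
  have h1 : (χ : G → ℂ) x ≠ 0 := hx ▸ char_one_ne_zero_of_irr χ.2
  have h2 := ((hsupp x).1 h1).resolve_left hx1
  have h3 := char_eq_of_isConj (isCharacter_of_irr χ.2) h2
  have h4 := gagola_val χ hg₀ hsupp hG
  rw [h3, hx] at h4
  have h5 : ((1 + Nat.card {x : G // IsConj g₀ x} : ℕ) : ℂ) * (χ : G → ℂ) 1 = 0 := by
    push_cast
    linear_combination h4
  rcases mul_eq_zero.1 h5 with h | h
  · have : (1 + Nat.card {x : G // IsConj g₀ x} : ℕ) = 0 := by exact_mod_cast h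
    omega
  · exact char_one_ne_zero_of_irr χ.2 h

end

section
variable {G : Type*} [Group G] [Finite G]

/-- The intersection of the kernels of all irreducible characters other than `χ`. -/
def gagolaN (χ : IrrCharacter G) : Subgroup G :=
  ⨅ ψ : {ψ : IrrCharacter G // ψ ≠ χ}, charKer (ψ.1 : G → ℂ) (isCharacter_of_irr ψ.1.2)

theorem mem_gagolaN (χ : IrrCharacter G) (x : G) :
    x ∈ gagolaN χ ↔ ∀ ψ : IrrCharacter G, ψ ≠ χ → (ψ : G → ℂ) x = (ψ : G → ℂ) 1 := by
  simp [gagolaN, Subgroup.mem_iInf]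

theorem gagolaN_normal (χ : IrrCharacter G) : (gagolaN χ).Normal := by
  have : ∀ ψ : {ψ : IrrCharacter G // ψ ≠ χ},
      (charKer (ψ.1 : G → ℂ) (isCharacter_of_irr ψ.1.2)).Normal :=
    fun ψ => charKer_normal _
  exact Subgroup.normal_iInf_normal this

variable (χ : IrrCharacter G) {g₀ : G} (hg₀ : g₀ ≠ 1)
  (hsupp : ∀ x, (χ : G → ℂ) x ≠ 0 ↔ x = 1 ∨ IsConj g₀ x)

include hg₀ hsupp

theorem mem_gagolaN_iff (hG : 2 < Nat.card G) (x : G) :
    x ∈ gagolaN χ ↔ (χ : G → ℂ) x ≠ 0 := by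
  classical
  rw [mem_gagolaN]
  constructor
  · intro hx hχx
    have hx1 : x ≠ 1 := by
      rintro rfl
      exact char_one_ne_zero_of_irr χ.2 hχx
    have h1 := col_orth x 1
    rw [if_neg (by rw [isConj_one_left]; exact hx1), ← Finset.add_sum_erase _ _ (Finset.mem_univ χ),
      hχx, zero_mul, zero_add] at h1
    have h2 : ∑ ψ ∈ Finset.univ.erase χ, (ψ : G → ℂ) x * conj ((ψ : G → ℂ) 1) =
        ((∑ ψ ∈ Finset.univ.erase χ, (charDegree (ψ : G → ℂ)) ^ 2 : ℕ) : ℂ) := by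
      push_cast
      apply Finset.sum_congr rfl
      intro ψ hψ
      rw [hx ψ (Finset.ne_of_mem_erase hψ), char_one_eq_charDegree (isCharacter_of_irr ψ.2)]
      simp [sq]
    rw [h2] at h1
    have h3 : ∑ ψ ∈ Finset.univ.erase χ, (charDegree (ψ : G → ℂ)) ^ 2 = 0 := by exact_mod_cast h1
    rw [Finset.sum_eq_zero_iff] at h3
    have h4 := h3 (trivIrr G) (Finset.mem_erase.2 ⟨gagola_ne_triv χ hg₀ hsupp hG, Finset.mem_univ _⟩)
    have h5 := charDegree_pos_of_irr (trivIrr G).2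
    have h6 : charDegree ((trivIrr G : IrrCharacter G) : G → ℂ) = 0 := by
      simpa using h4
    omega
  · intro hx ψ hψ
    rcases (hsupp x).1 hx with rfl | h
    · rfl
    · rw [← char_eq_of_isConj (isCharacter_of_irr ψ.2) h]
      exact gagola_other_ker χ hg₀ hsupp hG ψ hψ

theorem gagolaN_ne_bot (hG : 2 < Nat.card G) : gagolaN χ ≠ ⊥ := by
  intro h
  have : g₀ ∈ gagolaN χ := (mem_gagolaN_iff χ hg₀ hsupp hG g₀).2 ((hsupp g₀).2 (Or.inr (IsConj.refl _)))
  rw [h, Subgroup.mem_bot] at this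
  exact hg₀ this

/-- `gagolaN χ` is the unique minimal normal subgroup. -/
theorem gagolaN_le (hG : 2 < Nat.card G) (K : Subgroup G) (hK : K.Normal) (hK1 : K ≠ ⊥) :
    gagolaN χ ≤ K := by
  intro n hn
  by_contra hnK
  obtain ⟨ψ, hψK, hψn⟩ := exists_irr_ker_ne K hnK
  have hψχ : ψ ≠ χ := by
    rintro rfl
    apply hK1
    rw [Subgroup.eq_bot_iff_forall]
    intro x hx
    exact gagola_faithful ψ hg₀ hsupp hG x (hψK x hx)
  exact hψn ((mem_gagolaN χ n).1 hn ψ hψχ)

theorem gagolaN_conj (hG : 2 < Nat.card G) (x y : G) (hx : x ∈ gagolaN χ) (hy : y ∈ gagolaN χ)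
    (hx1 : x ≠ 1) (hy1 : y ≠ 1) : ∃ g : G, g * x * g⁻¹ = y := by
  have h1 := ((hsupp x).1 ((mem_gagolaN_iff χ hg₀ hsupp hG x).1 hx)).resolve_left hx1
  have h2 := ((hsupp y).1 ((mem_gagolaN_iff χ hg₀ hsupp hG y).1 hy)).resolve_left hy1
  exact isConj_iff.1 (h1.symm.trans h2)

theorem gagolaN_elementary (hG : 2 < Nat.card G) :
    ∃ p : ℕ, p.Prime ∧ IsMulCommutative (gagolaN χ) ∧ ∀ a ∈ gagolaN χ, a ^ p = 1 := by
  have hNn := gagolaN_normal χ
  have hne := gagolaN_ne_bot χ hg₀ hsupp hG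
  have hcard : Nat.card (gagolaN χ) ≠ 1 := by
    intro h
    exact hne ((Subgroup.card_eq_one).1 h)
  obtain ⟨p, hp, hpd⟩ := Nat.exists_prime_and_dvd hcard
  have : Fact p.Prime := ⟨hp⟩
  obtain ⟨x₀, hx₀⟩ := exists_prime_orderOf_dvd_card' (G := gagolaN χ) p hpd
  have hx₀1 : (x₀ : G) ≠ 1 := by
    intro h
    have : x₀ = 1 := Subtype.ext h
    rw [this, orderOf_one] at hx₀
    exact hp.one_lt.ne hx₀
  have hx₀p : (x₀ : G) ^ p = 1 := by
    have := pow_orderOf_eq_one x₀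
    rw [hx₀] at this
    exact_mod_cast congrArg Subtype.val this
  have hexp : ∀ a ∈ gagolaN χ, a ^ p = 1 := by
    intro a ha
    by_cases ha1 : a = 1
    · rw [ha1, one_pow]
    · obtain ⟨g, rfl⟩ := gagolaN_conj χ hg₀ hsupp hG x₀ a x₀.2 ha hx₀1 ha1
      rw [conj_pow, hx₀p]; simp
  refine ⟨p, hp, ?_, hexp⟩
  have hpg : IsPGroup p (gagolaN χ) := by
    intro a
    refine ⟨1, ?_⟩
    rw [pow_one]
    exact Subtype.ext (by simpa using hexp a a.2)
  have : Nontrivial (gagolaN χ) := (Subgroup.nontrivial_iff_ne_bot _).2 hne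
  have hZ : Nontrivial (Subgroup.center (gagolaN χ)) := hpg.center_nontrivial
  have hZn : ((Subgroup.center (gagolaN χ)).map (gagolaN χ).subtype).Normal := inferInstance
  have hZ1 : (Subgroup.center (gagolaN χ)).map (gagolaN χ).subtype ≠ ⊥ := by
    intro h
    rw [(Subgroup.map_eq_bot_iff_of_injective _ (Subgroup.subtype_injective _))] at h
    exact ((Subgroup.nontrivial_iff_ne_bot _).1 hZ) h
  have hle := gagolaN_le χ hg₀ hsupp hG _ hZn hZ1
  rw [isMulCommutative_iff]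
  intro a b
  obtain ⟨z, hz, hza⟩ := hle a.2
  have : z = a := Subtype.ext hza
  rw [← this]
  exact ((Subgroup.mem_center_iff.1 hz) b).symm

end

end Cfsg.Agent.Lib.Helper80
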