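import Cfsg.Agent.Lib.Helper80.DualSum
import Cfsg.Agent.Lib.Helper25.CyclicTI
import Cfsg.Agent.S0150

/-!
Concrete layer for `W = W₁ ⊔ W₂`.
-/

set_option autoImplicit false

namespace Cfsg.Agent.Lib.Helper80

open Cfsg Cfsg.Agent.Lib.Helper25
open scoped ComplexConjugate

variable {G : Type*} [Group G] {W₁ W₂ : Subgroup G}

/-- `W₁` inside `W₁ ⊔ W₂`. -/
abbrev subA (W₁ W₂ : Subgroup G) : Subgroup ↥(W₁ ⊔ W₂) := W₁.subgroupOf (W₁ ⊔ W₂)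
/-- `W₂` inside `W₁ ⊔ W₂`. -/
abbrev subB (W₁ W₂ : Subgroup G) : Subgroup ↥(W₁ ⊔ W₂) := W₂.subgroupOf (W₁ ⊔ W₂)

theorem hom_one_mul {X : Type*} [Group X] (ψ : X →* ℂˣ) : (1 : X →* ℂˣ) * ψ = ψ := by
  ext; simp

theorem hom_mul_one {X : Type*} [Group X] (ψ : X →* ℂˣ) : ψ * (1 : X →* ℂˣ) = ψ := by
  ext; simp

theorem subA_sup_subB : subA W₁ W₂ ⊔ subB W₁ W₂ = ⊤ := by
  rw [subA, subB, ← Subgroup.subgroupOf_sup le_sup_left le_sup_right, Subgroup.subgroupOf_self]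

theorem subA_inf_subB (h : W₁ ⊓ W₂ = ⊥) : subA W₁ W₂ ⊓ subB W₁ W₂ = ⊥ := by
  rw [eq_bot_iff]
  intro w hw
  rw [Subgroup.mem_inf, Subgroup.mem_subgroupOf, Subgroup.mem_subgroupOf] at hw
  have : (w : G) ∈ W₁ ⊓ W₂ := hw
  rw [h, Subgroup.mem_bot] at this
  rw [Subgroup.mem_bot]
  exact Subtype.ext this

theorem mem_dualOf_subB [Finite G] {φ : ↥(W₁ ⊔ W₂) →* ℂˣ} :
    φ ∈ dualOf (subB W₁ W₂) ↔ ∀ w : ↥(W₁ ⊔ W₂), (w : G) ∈ W₂ → φ w = 1 := by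
  rw [mem_dualOf]; rfl

theorem mem_dualOf_subA [Finite G] {ψ : ↥(W₁ ⊔ W₂) →* ℂˣ} :
    ψ ∈ dualOf (subA W₁ W₂) ↔ ∀ w : ↥(W₁ ⊔ W₂), (w : G) ∈ W₁ → ψ w = 1 := by
  rw [mem_dualOf]; rfl

/-- inner product of `(1-φ)(1-ψ)` with the linear character `φ'ψ'`. -/
theorem classInner_alphaFun_linFun [Finite G] [Fintype ↥(W₁ ⊔ W₂)]
    {φ φ' ψ ψ' : ↥(W₁ ⊔ W₂) →* ℂˣ}
    (hφ : φ ∈ dualOf (subB W₁ W₂)) (hφ' : φ' ∈ dualOf (subB W₁ W₂))
    (hψ : ψ ∈ dualOf (subA W₁ W₂)) (hψ' : ψ' ∈ dualOf (subA W₁ W₂))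
    (h1 : φ' ≠ 1) (h2 : ψ' ≠ 1) [Decidable (φ = φ' ∧ ψ = ψ')] :
    classInner (alphaFun φ ψ) (linFun (φ' * ψ')) = if φ = φ' ∧ ψ = ψ' then 1 else 0 := by
  classical
  have hsup := subA_sup_subB (W₁ := W₁) (W₂ := W₂)
  have o1 := one_mem_dualOf (subB W₁ W₂)
  have o2 := one_mem_dualOf (subA W₁ W₂)
  rw [alphaFun_eq, Cfsg.Agent.Lib.Helper74.classInner_add_left,
    Cfsg.Agent.Lib.Helper74.classInner_sub_left, Cfsg.Agent.Lib.Helper74.classInner_sub_left,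
    classInner_linFun, classInner_linFun, classInner_linFun, classInner_linFun]
  have e1 : (1 : ↥(W₁ ⊔ W₂) →* ℂˣ) ≠ φ' * ψ' := by
    intro h
    exact h1 (mul_injOn_dualOf _ _ hsup o1 hφ' o2 hψ' (by rw [hom_one_mul]; exact h)).1.symm
  have e2 : φ ≠ φ' * ψ' := by
    intro h
    exact h2 (mul_injOn_dualOf _ _ hsup hφ hφ' o2 hψ' (by rw [hom_mul_one]; exact h)).2.symm
  have e3 : ψ ≠ φ' * ψ' := by
    intro h
    exact h1 (mul_injOn_dualOf _ _ hsup o1 hφ' hψ hψ' (by rw [hom_one_mul]; exact h)).1.symm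
  rw [if_neg e1, if_neg e2, if_neg e3]
  by_cases h : φ = φ' ∧ ψ = ψ'
  · rw [if_pos h, if_pos (by rw [h.1, h.2])]; ring
  · rw [if_neg h, if_neg (fun h' => h (mul_injOn_dualOf _ _ hsup hφ hφ' hψ hψ' h'))]; ring

/-- inner product of `(1-φ)(1-ψ)` with `φ'` (trivial on `W₂`), `φ' ≠ 1`. -/
theorem classInner_alphaFun_linFun_left [Finite G] [Fintype ↥(W₁ ⊔ W₂)]
    {φ φ' ψ : ↥(W₁ ⊔ W₂) →* ℂˣ}
    (hφ : φ ∈ dualOf (subB W₁ W₂)) (hφ' : φ' ∈ dualOf (subB W₁ W₂))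
    (hψ : ψ ∈ dualOf (subA W₁ W₂)) (h1 : φ' ≠ 1) (h2 : ψ ≠ 1) [Decidable (φ = φ')] :
    classInner (alphaFun φ ψ) (linFun φ') = if φ = φ' then -1 else 0 := by
  classical
  have hsup := subA_sup_subB (W₁ := W₁) (W₂ := W₂)
  have o1 := one_mem_dualOf (subB W₁ W₂)
  have o2 := one_mem_dualOf (subA W₁ W₂)
  rw [alphaFun_eq, Cfsg.Agent.Lib.Helper74.classInner_add_left,
    Cfsg.Agent.Lib.Helper74.classInner_sub_left, Cfsg.Agent.Lib.Helper74.classInner_sub_left,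
    classInner_linFun, classInner_linFun, classInner_linFun, classInner_linFun]
  have e1 : (1 : ↥(W₁ ⊔ W₂) →* ℂˣ) ≠ φ' := fun h => h1 h.symm
  have e3 : ψ ≠ φ' := by
    intro h
    exact h1 (mul_injOn_dualOf _ _ hsup o1 hφ' hψ o2 (by rw [hom_one_mul, hom_mul_one]; exact h)).1.symm
  have e4 : φ * ψ ≠ φ' := by
    intro h
    exact h2 (mul_injOn_dualOf _ _ hsup hφ hφ' hψ o2 (by rw [hom_mul_one]; exact h)).2
  rw [if_neg e1, if_neg e3, if_neg e4]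
  by_cases h : φ = φ'
  · rw [if_pos h, if_pos h]; ring
  · rw [if_neg h, if_neg h]; ring

/-- inner product of `(1-φ)(1-ψ)` with `ψ'` (trivial on `W₁`), `ψ' ≠ 1`. -/
theorem classInner_alphaFun_linFun_right [Finite G] [Fintype ↥(W₁ ⊔ W₂)]
    {φ ψ ψ' : ↥(W₁ ⊔ W₂) →* ℂˣ}
    (hφ : φ ∈ dualOf (subB W₁ W₂))
    (hψ : ψ ∈ dualOf (subA W₁ W₂)) (hψ' : ψ' ∈ dualOf (subA W₁ W₂)) (h1 : φ ≠ 1) (h2 : ψ' ≠ 1)
    [Decidable (ψ = ψ')] :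
    classInner (alphaFun φ ψ) (linFun ψ') = if ψ = ψ' then -1 else 0 := by
  classical
  have hsup := subA_sup_subB (W₁ := W₁) (W₂ := W₂)
  have o1 := one_mem_dualOf (subB W₁ W₂)
  have o2 := one_mem_dualOf (subA W₁ W₂)
  rw [alphaFun_eq, Cfsg.Agent.Lib.Helper74.classInner_add_left,
    Cfsg.Agent.Lib.Helper74.classInner_sub_left, Cfsg.Agent.Lib.Helper74.classInner_sub_left,
    classInner_linFun, classInner_linFun, classInner_linFun, classInner_linFun]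
  have e1 : (1 : ↥(W₁ ⊔ W₂) →* ℂˣ) ≠ ψ' := fun h => h2 h.symm
  have e3 : φ ≠ ψ' := by
    intro h
    exact h1 (mul_injOn_dualOf _ _ hsup hφ o1 o2 hψ' (by rw [hom_one_mul, hom_mul_one]; exact h)).1
  have e4 : φ * ψ ≠ ψ' := by
    intro h
    exact h1 (mul_injOn_dualOf _ _ hsup hφ o1 hψ hψ' (by rw [hom_one_mul]; exact h)).1
  rw [if_neg e1, if_neg e3, if_neg e4]
  by_cases h : ψ = ψ'
  · rw [if_pos h, if_pos h]; ring
  · rw [if_neg h, if_neg h]; ring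

/-- inner product of `(1-φ)(1-ψ)` with `1`. -/
theorem classInner_alphaFun_one [Finite G] [Fintype ↥(W₁ ⊔ W₂)]
    {φ ψ : ↥(W₁ ⊔ W₂) →* ℂˣ}
    (hφ : φ ∈ dualOf (subB W₁ W₂)) (hψ : ψ ∈ dualOf (subA W₁ W₂)) (h1 : φ ≠ 1) (h2 : ψ ≠ 1) :
    classInner (alphaFun φ ψ) (linFun 1) = 1 := by
  classical
  have hsup := subA_sup_subB (W₁ := W₁) (W₂ := W₂)
  have o1 := one_mem_dualOf (subB W₁ W₂)
  have o2 := one_mem_dualOf (subA W₁ W₂)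
  rw [alphaFun_eq, Cfsg.Agent.Lib.Helper74.classInner_add_left,
    Cfsg.Agent.Lib.Helper74.classInner_sub_left, Cfsg.Agent.Lib.Helper74.classInner_sub_left,
    classInner_linFun, classInner_linFun, classInner_linFun, classInner_linFun]
  have e4 : φ * ψ ≠ 1 := by
    intro h
    exact h1 (mul_injOn_dualOf _ _ hsup hφ o1 hψ o2 (by rw [hom_one_mul]; exact h)).1
  rw [if_pos rfl, if_neg h1, if_neg h2, if_neg e4]; ring

/-- the set `W \ (W₁ ∪ W₂)`. -/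
def setV (W₁ W₂ : Subgroup G) : Set G := (↑(W₁ ⊔ W₂) : Set G) \ (↑W₁ ∪ ↑W₂)

theorem mem_setV {x : G} : x ∈ setV W₁ W₂ ↔ x ∈ W₁ ⊔ W₂ ∧ x ∉ W₁ ∧ x ∉ W₂ := by
  unfold setV
  simp [not_or]

theorem comm_of_snc (hW : IsSelfNormalizingCyclic W₁ W₂) : ∀ a b : ↥(W₁ ⊔ W₂), a * b = b * a := by
  have := hW.2.2.2.2.1
  intro a b
  exact IsCyclic.commGroup.mul_comm a b

/-- the generators of `W` form a nonempty subset of `V`. -/
theorem gen_subset_setV (hW : IsSelfNormalizingCyclic W₁ W₂) :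
    {x : G | x ∈ W₁ ⊔ W₂ ∧ ∀ w ∈ W₁ ⊔ W₂, w ∈ Subgroup.zpowers x} ⊆ setV W₁ W₂ := by
  obtain ⟨h1, h2, h12, -, -, -⟩ := hW
  intro x hx
  rw [mem_setV]
  refine ⟨hx.1, fun hx1 => h2 ?_, fun hx2 => h1 ?_⟩
  · rw [eq_bot_iff, ← h12]
    intro w hw
    refine ⟨?_, hw⟩
    have := hx.2 w (Subgroup.mem_sup_right hw)
    exact (Subgroup.zpowers_le.2 hx1) this
  · rw [eq_bot_iff, ← h12]
    intro w hw
    refine ⟨hw, ?_⟩
    have := hx.2 w (Subgroup.mem_sup_left hw)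
    exact (Subgroup.zpowers_le.2 hx2) this

theorem gen_nonempty (hW : IsSelfNormalizingCyclic W₁ W₂) :
    {x : G | x ∈ W₁ ⊔ W₂ ∧ ∀ w ∈ W₁ ⊔ W₂, w ∈ Subgroup.zpowers x}.Nonempty := by
  obtain ⟨c, hc⟩ := hW.2.2.2.2.1.exists_generator
  refine ⟨c.1, c.2, fun w hw => ?_⟩
  obtain ⟨k, hk⟩ := Subgroup.mem_zpowers_iff.1 (hc ⟨w, hw⟩)
  refine Subgroup.mem_zpowers_iff.2 ⟨k, ?_⟩
  have := congrArg Subtype.val hk
  simpa using this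

theorem setV_nonempty (hW : IsSelfNormalizingCyclic W₁ W₂) : (setV W₁ W₂).Nonempty :=
  (gen_nonempty hW).mono (gen_subset_setV hW)

theorem normalizer_setV (hW : IsSelfNormalizingCyclic W₁ W₂) :
    Subgroup.normalizer (setV W₁ W₂) = W₁ ⊔ W₂ :=
  hW.2.2.2.2.2 _ (le_refl _) (setV_nonempty hW)

theorem mem_of_commute (hW : IsSelfNormalizingCyclic W₁ W₂) {t g : G} (ht : t ∈ setV W₁ W₂)
    (h : g * t * g⁻¹ = t) : g ∈ W₁ ⊔ W₂ := by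
  rw [← hW.2.2.2.2.2 {t} (by intro x hx; rw [Set.mem_singleton_iff] at hx; rw [hx]; exact ht)
    (Set.singleton_nonempty t), Subgroup.mem_set_normalizer_iff]
  intro n
  simp only [Set.mem_singleton_iff]
  constructor
  · rintro rfl; exact h
  · intro hn
    have : g * n * g⁻¹ = g * t * g⁻¹ := by rw [hn, h]
    simpa using this

theorem commute_of_mem (hW : IsSelfNormalizingCyclic W₁ W₂) {t g : G} (ht : t ∈ W₁ ⊔ W₂)
    (hg : g ∈ W₁ ⊔ W₂) : g * t * g⁻¹ = t := by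
  have := comm_of_snc hW ⟨g, hg⟩ ⟨t, ht⟩
  have h2 : g * t = t * g := congrArg Subtype.val this
  rw [h2, mul_assoc, mul_inv_cancel, mul_one]

/-- `V` is a TI subset with normalizer `W`. -/
theorem ti_setV (hW : IsSelfNormalizingCyclic W₁ W₂) {t g : G} (ht : t ∈ setV W₁ W₂)
    (hs : g * t * g⁻¹ ∈ setV W₁ W₂) : g ∈ W₁ ⊔ W₂ := by
  have hconj : ∀ w ∈ W₁ ⊔ W₂, g * w * g⁻¹ ∈ W₁ ⊔ W₂ := by
    intro w hw
    refine mem_of_commute hW hs ?_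
    have := commute_of_mem hW (mem_setV.1 ht).1 hw
    calc g * w * g⁻¹ * (g * t * g⁻¹) * (g * w * g⁻¹)⁻¹ = g * (w * t * w⁻¹) * g⁻¹ := by group
      _ = _ := by rw [this]
  have hconj' : ∀ w ∈ W₁ ⊔ W₂, g⁻¹ * w * g ∈ W₁ ⊔ W₂ := by
    intro w hw
    refine mem_of_commute hW ht ?_
    have := commute_of_mem hW (mem_setV.1 hs).1 hw
    calc g⁻¹ * w * g * t * (g⁻¹ * w * g)⁻¹ = g⁻¹ * (w * (g * t * g⁻¹) * w⁻¹) * g := by group
      _ = _ := by rw [this]; group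
  rw [← hW.2.2.2.2.2 _ (gen_subset_setV hW) (gen_nonempty hW), Subgroup.mem_set_normalizer_iff]
  intro n
  simp only [Set.mem_ofPred_eq]
  constructor
  · rintro ⟨hn, hgen⟩
    refine ⟨hconj n hn, fun w hw => ?_⟩
    obtain ⟨k, hk⟩ := Subgroup.mem_zpowers_iff.1 (hgen _ (hconj' w hw))
    refine Subgroup.mem_zpowers_iff.2 ⟨k, ?_⟩
    rw [conj_zpow, hk]; group
  · rintro ⟨hn, hgen⟩
    have hn' : n ∈ W₁ ⊔ W₂ := by
      have := hconj' _ hn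
      have e : g⁻¹ * (g * n * g⁻¹) * g = n := by group
      rwa [e] at this
    refine ⟨hn', fun w hw => ?_⟩
    obtain ⟨k, hk⟩ := Subgroup.mem_zpowers_iff.1 (hgen _ (hconj w hw))
    refine Subgroup.mem_zpowers_iff.2 ⟨k, ?_⟩
    rw [conj_zpow] at hk
    have : g⁻¹ * (g * n ^ k * g⁻¹) * g = g⁻¹ * (g * w * g⁻¹) * g := by rw [hk]
    simpa [mul_assoc] using this

/-- TI isometry for a subgroup equal to the normalizer of `T`. -/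
theorem ti_isometry [Fintype G] (T : Set G) (H : Subgroup G) (hH : Subgroup.normalizer T = H)
    (hTI : ∀ g : G, g ∉ H → ∀ t ∈ T, g * t * g⁻¹ ∈ T → t = 1) (hTN : T ⊆ H) [Fintype H]
    (ψ θ : H → ℂ) (hψ : IsClassFunction H ψ) (hθ : IsClassFunction H θ)
    (hψT : ∀ x : H, (x : G) ∉ T → ψ x = 0) (hθT : ∀ x : H, (x : G) ∉ T → θ x = 0) (hψ1 : ψ 1 = 0) :
    classInner (indFun H ψ) (indFun H θ) = classInner ψ θ := by
  subst hH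
  exact Cfsg.Agent.S0150.result T hTI hTN ψ θ hψ hθ hψT hθT hψ1

/-- induction is an isometry on functions on `W` vanishing on `W₁ ∪ W₂`. -/
theorem classInner_indFun_indFun [Fintype G] [Fintype ↥(W₁ ⊔ W₂)]
    (hW : IsSelfNormalizingCyclic W₁ W₂) (ψ θ : ↥(W₁ ⊔ W₂) → ℂ)
    (hψ : ∀ w : ↥(W₁ ⊔ W₂), ((w : G) ∈ W₁ ∨ (w : G) ∈ W₂) → ψ w = 0)
    (hθ : ∀ w : ↥(W₁ ⊔ W₂), ((w : G) ∈ W₁ ∨ (w : G) ∈ W₂) → θ w = 0) :
    classInner (indFun (W₁ ⊔ W₂) ψ) (indFun (W₁ ⊔ W₂) θ) = classInner ψ θ := by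
  have hcl : ∀ f : ↥(W₁ ⊔ W₂) → ℂ, IsClassFunction ↥(W₁ ⊔ W₂) f := by
    intro f g h
    rw [comm_of_snc hW h g, mul_assoc, mul_inv_cancel, mul_one]
  refine ti_isometry (setV W₁ W₂) _ (normalizer_setV hW) ?_ (fun x hx => (mem_setV.1 hx).1) ψ θ
    (hcl ψ) (hcl θ) ?_ ?_ (hψ 1 (Or.inl W₁.one_mem))
  · intro g hg t ht hs
    exact absurd (ti_setV hW ht hs) hg
  · intro x hx
    apply hψ
    by_contra hcon
    rw [not_or] at hcon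
    exact hx (mem_setV.2 ⟨x.2, hcon.1, hcon.2⟩)
  · intro x hx
    apply hθ
    by_contra hcon
    rw [not_or] at hcon
    exact hx (mem_setV.2 ⟨x.2, hcon.1, hcon.2⟩)

end Cfsg.Agent.Lib.Helper80
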