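import Cfsg.Agent.Lib.Helper80.CycTI
import Cfsg.Agent.Lib.Helper3.Irr

/-!
Uniqueness of a cyclic TI family (odd order).
-/

set_option autoImplicit false

namespace Cfsg.Agent.Lib.Helper80

open Cfsg Cfsg.Agent.Lib.Helper25
open scoped ComplexConjugate

section signed

variable {G : Type*} [Group G] [Fintype G]

/-- an irreducible character up to sign. -/
def SIrr (G : Type*) [Group G] (f : G → ℂ) : Prop := IsIrrCharacter G f ∨ IsIrrCharacter G (-f)

omit [Fintype G] in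
theorem SIrr.neg {a : G → ℂ} (ha : SIrr G a) : SIrr G (-a) := by
  rcases ha with h | h
  · right; rwa [neg_neg]
  · left; exact h

theorem SIrr.self {a : G → ℂ} (ha : SIrr G a) : classInner a a = 1 := by
  rcases ha with h | h
  · exact Cfsg.Agent.Lib.Helper3.classInner_irr_self h
  · have := Cfsg.Agent.Lib.Helper3.classInner_irr_self h
    rwa [Cfsg.Agent.Lib.Helper15.classInner_neg_left, Cfsg.Agent.Lib.Helper15.classInner_neg_right,
      neg_neg] at this

theorem SIrr.tri {a b : G → ℂ} (ha : SIrr G a) (hb : SIrr G b) :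
    a = b ∨ a = -b ∨ classInner a b = 0 := by
  rcases ha with ha | ha <;> rcases hb with hb | hb
  · by_cases h : a = b
    · left; exact h
    · right; right; exact Cfsg.Agent.Lib.Helper3.classInner_irr_ne ha hb h
  · by_cases h : a = -b
    · right; left; exact h
    · right; right
      have := Cfsg.Agent.Lib.Helper3.classInner_irr_ne ha hb h
      rwa [Cfsg.Agent.Lib.Helper15.classInner_neg_right, neg_eq_zero] at this
  · by_cases h : -a = b
    · right; left; rw [← h, neg_neg]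
    · right; right
      have := Cfsg.Agent.Lib.Helper3.classInner_irr_ne ha hb h
      rwa [Cfsg.Agent.Lib.Helper15.classInner_neg_left, neg_eq_zero] at this
  · by_cases h : -a = -b
    · left; exact neg_injective h
    · right; right
      have := Cfsg.Agent.Lib.Helper3.classInner_irr_ne ha hb h
      rwa [Cfsg.Agent.Lib.Helper15.classInner_neg_left, Cfsg.Agent.Lib.Helper15.classInner_neg_right,
        neg_neg] at this

theorem classInner_symm_zero {a b : G → ℂ} (h : classInner a b = 0) : classInner b a = 0 := by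
  rw [← Cfsg.Agent.Lib.Helper15.classInner_conj_symm, h, map_zero]

theorem tri_lemma {a b c e : G → ℂ} (ha : SIrr G a) (hb : SIrr G b) (hc : SIrr G c) (he : SIrr G e)
    (hab : classInner a b = 0) (hac : classInner a c = 0) (hbc : classInner b c = 0)
    (h : classInner a e + classInner b e - classInner c e = 1) : e = a ∨ e = b ∨ e = -c := by
  rcases ha.tri he with h1 | h1 | h1
  · left; exact h1.symm
  · exfalso
    have he' : e = -a := by rw [h1, neg_neg]
    rw [he', Cfsg.Agent.Lib.Helper15.classInner_neg_right, Cfsg.Agent.Lib.Helper15.classInner_neg_right,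
      Cfsg.Agent.Lib.Helper15.classInner_neg_right, ha.self, classInner_symm_zero hab,
      classInner_symm_zero hac] at h
    norm_num at h
  · rcases hb.tri he with h2 | h2 | h2
    · right; left; exact h2.symm
    · exfalso
      have he' : e = -b := by rw [h2, neg_neg]
      rw [he', Cfsg.Agent.Lib.Helper15.classInner_neg_right, Cfsg.Agent.Lib.Helper15.classInner_neg_right,
        Cfsg.Agent.Lib.Helper15.classInner_neg_right, hb.self, hab, classInner_symm_zero hbc] at h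
      norm_num at h
    · rcases hc.tri he with h3 | h3 | h3
      · exfalso
        rw [h1, h2, ← h3, hc.self] at h
        norm_num at h
      · right; right; rw [h3, neg_neg]
      · exfalso
        rw [h1, h2, h3] at h
        norm_num at h

theorem unique_aux {ι : Type*} (χ χ' : ι → G → ℂ) (hs : ∀ i, SIrr G (χ i)) (hs' : ∀ i, SIrr G (χ' i))
    (ho : ∀ i j, i ≠ j → classInner (χ i) (χ j) = 0)
    (ho' : ∀ i j, i ≠ j → classInner (χ' i) (χ' j) = 0)
    {i j k j' k' : ι} (d1 : i ≠ j) (d2 : i ≠ k) (d3 : j ≠ k) (d4 : i ≠ j') (d5 : i ≠ k')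
    (d6 : j' ≠ k') (d7 : j ≠ j') (d8 : j ≠ k') (d9 : k ≠ j') (d10 : k ≠ k')
    (h1 : χ i + χ j - χ k = χ' i + χ' j - χ' k)
    (h2 : χ i + χ j' - χ k' = χ' i + χ' j' - χ' k') : χ i = χ' i := by
  have E1 : classInner (χ i) (χ' i) + classInner (χ j) (χ' i) - classInner (χ k) (χ' i) = 1 := by
    rw [← Cfsg.Agent.Lib.Helper15.classInner_add_left, ← Cfsg.Agent.Lib.Helper15.classInner_sub_left,
      h1, Cfsg.Agent.Lib.Helper15.classInner_sub_left, Cfsg.Agent.Lib.Helper15.classInner_add_left,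
      (hs' i).self, ho' j i d1.symm, ho' k i d2.symm]
    ring
  have E2 : classInner (χ i) (χ' i) + classInner (χ j') (χ' i) - classInner (χ k') (χ' i) = 1 := by
    rw [← Cfsg.Agent.Lib.Helper15.classInner_add_left, ← Cfsg.Agent.Lib.Helper15.classInner_sub_left,
      h2, Cfsg.Agent.Lib.Helper15.classInner_sub_left, Cfsg.Agent.Lib.Helper15.classInner_add_left,
      (hs' i).self, ho' j' i d4.symm, ho' k' i d5.symm]
    ring
  have T1 := tri_lemma (hs i) (hs j) (hs k) (hs' i) (ho i j d1) (ho i k d2) (ho j k d3) E1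
  have T2 := tri_lemma (hs i) (hs j') (hs k') (hs' i) (ho i j' d4) (ho i k' d5) (ho j' k' d6) E2
  have hself := (hs' i).self
  rcases T1 with t | t | t
  · exact t.symm
  · rcases T2 with u | u | u
    · exact u.symm
    · exfalso
      have : classInner (χ j) (χ j') = 1 := by rw [← t, ← u]; exact hself
      rw [ho j j' d7] at this; norm_num at this
    · exfalso
      have : classInner (χ j) (-χ k') = 1 := by rw [← t, ← u]; exact hself
      rw [Cfsg.Agent.Lib.Helper15.classInner_neg_right, ho j k' d8] at this; norm_num at this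
  · rcases T2 with u | u | u
    · exact u.symm
    · exfalso
      have : classInner (-χ k) (χ j') = 1 := by rw [← t, ← u]; exact hself
      rw [Cfsg.Agent.Lib.Helper15.classInner_neg_left, ho k j' d9] at this; norm_num at this
    · exfalso
      have : classInner (-χ k) (-χ k') = 1 := by rw [← t, ← u]; exact hself
      rw [Cfsg.Agent.Lib.Helper15.classInner_neg_left, Cfsg.Agent.Lib.Helper15.classInner_neg_right,
        ho k k' d10] at this
      norm_num at this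

end signed

section family

variable {G : Type*} [Group G] [Fintype G] {W₁ W₂ : Subgroup G}

theorem card_dualOf_subB (hW : IsSelfNormalizingCyclic W₁ W₂) :
    (dualOf (subB W₁ W₂)).card = Nat.card W₁ := by
  have hc := comm_of_snc hW
  have hcompl := isComplement'_of_comm hc _ _ (subA_inf_subB hW.2.2.1) subA_sup_subB
  rw [card_dualOf hc, ← Nat.card_congr (Subgroup.subgroupOfEquivOfLe (le_sup_left : W₁ ≤ W₁ ⊔ W₂)).toEquiv]
  exact hcompl.index_eq_card

theorem card_dualOf_subA (hW : IsSelfNormalizingCyclic W₁ W₂) :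
    (dualOf (subA W₁ W₂)).card = Nat.card W₂ := by
  have hc := comm_of_snc hW
  have hcompl := isComplement'_of_comm hc _ _ (subA_inf_subB hW.2.2.1) subA_sup_subB
  rw [card_dualOf hc, ← Nat.card_congr (Subgroup.subgroupOfEquivOfLe (le_sup_right : W₂ ≤ W₁ ⊔ W₂)).toEquiv]
  exact hcompl.symm.index_eq_card

omit [Fintype G] in
theorem card_mul_card_snc (hW : IsSelfNormalizingCyclic W₁ W₂) :
    Nat.card W₁ * Nat.card W₂ = Nat.card ↥(W₁ ⊔ W₂) := by
  have hc := comm_of_snc hW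
  have hcompl := isComplement'_of_comm hc _ _ (subA_inf_subB hW.2.2.1) subA_sup_subB
  rw [← Nat.card_congr (Subgroup.subgroupOfEquivOfLe (le_sup_left : W₁ ≤ W₁ ⊔ W₂)).toEquiv,
    ← Nat.card_congr (Subgroup.subgroupOfEquivOfLe (le_sup_right : W₂ ≤ W₁ ⊔ W₂)).toEquiv]
  exact hcompl.card_mul_card

theorem three_le_card {H : Subgroup G} (h1 : H ≠ ⊥) (h2 : Odd (Nat.card H)) : 3 ≤ Nat.card H := by
  have h3 : Nat.card H ≠ 1 := fun h => h1 (Subgroup.card_eq_one.1 h)
  have h4 : 0 < Nat.card H := Nat.card_pos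
  obtain ⟨a, ha⟩ := h2
  omega

/-- in a finset with at least three elements there is one avoiding two given ones. -/
theorem exists_avoid {α : Type*} [DecidableEq α] (S : Finset α) (h : 3 ≤ S.card) (a b : α) :
    ∃ c ∈ S, c ≠ a ∧ c ≠ b := by
  have : ({a, b} : Finset α).card < S.card := lt_of_le_of_lt (Finset.card_le_two) (by omega)
  obtain ⟨c, hc, hc'⟩ := Finset.exists_mem_notMem_of_card_lt_card this
  rw [Finset.mem_insert, Finset.mem_singleton, not_or] at hc'
  exact ⟨c, hc, hc'.1, hc'.2⟩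

theorem family_eqn {χ χ' : (↥(W₁ ⊔ W₂) →* ℂˣ) → (G → ℂ)}
    (hχ : IsCyclicTIFamily W₁ W₂ χ) (hχ' : IsCyclicTIFamily W₁ W₂ χ')
    {φ ψ : ↥(W₁ ⊔ W₂) →* ℂˣ} (hφ : φ ∈ dualOf (subB W₁ W₂)) (hψ : ψ ∈ dualOf (subA W₁ W₂))
    (h1 : φ ≠ 1) (h2 : ψ ≠ 1) :
    χ φ + χ ψ - χ (φ * ψ) = χ' φ + χ' ψ - χ' (φ * ψ) := by
  have e1 := hχ.induced_eq φ ψ h1 h2 (mem_dualOf_subB.1 hφ) (mem_dualOf_subA.1 hψ)
  have e2 := hχ'.induced_eq φ ψ h1 h2 (mem_dualOf_subB.1 hφ) (mem_dualOf_subA.1 hψ)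
  rw [e1] at e2
  funext g
  have := congrFun e2 g
  simp only [Pi.add_apply, Pi.sub_apply]
  linear_combination -this

theorem family_unique (hW : IsSelfNormalizingCyclic W₁ W₂) (hodd : Odd (Nat.card ↥(W₁ ⊔ W₂)))
    {χ χ' : (↥(W₁ ⊔ W₂) →* ℂˣ) → (G → ℂ)}
    (hχ : IsCyclicTIFamily W₁ W₂ χ) (hχ' : IsCyclicTIFamily W₁ W₂ χ') : χ = χ' := by
  classical
  have hc := comm_of_snc hW
  have hinf : subA W₁ W₂ ⊓ subB W₁ W₂ = ⊥ := subA_inf_subB hW.2.2.1
  have hsup : subA W₁ W₂ ⊔ subB W₁ W₂ = ⊤ := subA_sup_subB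
  rw [← card_mul_card_snc hW, Nat.odd_mul] at hodd
  have c1 : 3 ≤ (dualOf (subB W₁ W₂)).card := by
    rw [card_dualOf_subB hW]; exact three_le_card hW.1 hodd.1
  have c2 : 3 ≤ (dualOf (subA W₁ W₂)).card := by
    rw [card_dualOf_subA hW]; exact three_le_card hW.2.1 hodd.2
  -- the index type of pairs
  let ι := {p : (↥(W₁ ⊔ W₂) →* ℂˣ) × (↥(W₁ ⊔ W₂) →* ℂˣ) //
    p.1 ∈ dualOf (subB W₁ W₂) ∧ p.2 ∈ dualOf (subA W₁ W₂)}
  have hinj : ∀ i j : ι, i ≠ j → i.1.1 * i.1.2 ≠ j.1.1 * j.1.2 := by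
    intro i j hij h
    obtain ⟨h1, h2⟩ := mul_injOn_dualOf _ _ hsup i.2.1 j.2.1 i.2.2 j.2.2 h
    exact hij (Subtype.ext (Prod.ext h1 h2))
  have key := fun (i j k j' k' : ι) =>
    unique_aux (ι := ι) (fun p => χ (p.1.1 * p.1.2)) (fun p => χ' (p.1.1 * p.1.2))
    (fun i => hχ.irr_or_neg _) (fun i => hχ'.irr_or_neg _)
    (fun i j hij => by rw [hχ.orthonormal, if_neg (hinj i j hij)])
    (fun i j hij => by rw [hχ'.orthonormal, if_neg (hinj i j hij)])
    (i := i) (j := j) (k := k) (j' := j') (k' := k')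
  have hne : ∀ (a b c d : ↥(W₁ ⊔ W₂) →* ℂˣ) h h', (a ≠ c ∨ b ≠ d) →
      (⟨(a, b), h⟩ : ι) ≠ ⟨(c, d), h'⟩ := by
    intro a b c d h h' hh he
    have he' := congrArg Subtype.val he
    simp only [Prod.mk.injEq] at he'
    rcases hh with hh | hh
    · exact hh he'.1
    · exact hh he'.2
  have o1 := one_mem_dualOf (subB W₁ W₂)
  have o2 := one_mem_dualOf (subA W₁ W₂)
  have key1 : ∀ φ ∈ dualOf (subB W₁ W₂), φ ≠ 1 → χ φ = χ' φ := by
    intro φ hφ h1
    obtain ⟨ψ, hψ, h2, -⟩ := exists_avoid _ c2 1 1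
    obtain ⟨ψ', hψ', h3, h4⟩ := exists_avoid _ c2 1 ψ
    have := key ⟨(φ, 1), hφ, o2⟩ ⟨(1, ψ), o1, hψ⟩ ⟨(φ, ψ), hφ, hψ⟩
      ⟨(1, ψ'), o1, hψ'⟩ ⟨(φ, ψ'), hφ, hψ'⟩
      (hne _ _ _ _ _ _ (.inl h1)) (hne _ _ _ _ _ _ (.inr h2.symm)) (hne _ _ _ _ _ _ (.inl h1.symm))
      (hne _ _ _ _ _ _ (.inl h1)) (hne _ _ _ _ _ _ (.inr h3.symm)) (hne _ _ _ _ _ _ (.inl h1.symm))
      (hne _ _ _ _ _ _ (.inr h4.symm)) (hne _ _ _ _ _ _ (.inl h1.symm)) (hne _ _ _ _ _ _ (.inl h1))
      (hne _ _ _ _ _ _ (.inr h4.symm))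
    simp only [hom_one_mul, hom_mul_one] at this
    exact this (family_eqn hχ hχ' hφ hψ h1 h2) (family_eqn hχ hχ' hφ hψ' h1 h3)
  have key2 : ∀ ψ ∈ dualOf (subA W₁ W₂), ψ ≠ 1 → χ ψ = χ' ψ := by
    intro ψ hψ h1
    obtain ⟨φ, hφ, h2, -⟩ := exists_avoid _ c1 1 1
    obtain ⟨φ', hφ', h3, h4⟩ := exists_avoid _ c1 1 φ
    have := key ⟨(1, ψ), o1, hψ⟩ ⟨(φ, 1), hφ, o2⟩ ⟨(φ, ψ), hφ, hψ⟩
      ⟨(φ', 1), hφ', o2⟩ ⟨(φ', ψ), hφ', hψ⟩
      (hne _ _ _ _ _ _ (.inr h1)) (hne _ _ _ _ _ _ (.inl h2.symm)) (hne _ _ _ _ _ _ (.inr h1.symm))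
      (hne _ _ _ _ _ _ (.inr h1)) (hne _ _ _ _ _ _ (.inl h3.symm)) (hne _ _ _ _ _ _ (.inr h1.symm))
      (hne _ _ _ _ _ _ (.inl h4.symm)) (hne _ _ _ _ _ _ (.inr h1.symm)) (hne _ _ _ _ _ _ (.inr h1))
      (hne _ _ _ _ _ _ (.inl h4.symm))
    simp only [hom_one_mul, hom_mul_one] at this
    refine this ?_ ?_
    · have := family_eqn hχ hχ' hφ hψ h2 h1
      rw [add_comm (χ ψ), add_comm (χ' ψ)]; exact this
    · have := family_eqn hχ hχ' hφ' hψ h3 h1
      rw [add_comm (χ ψ), add_comm (χ' ψ)]; exact this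
  funext ω
  obtain ⟨φ, hφ, ψ, hψ, rfl⟩ := exists_decomp hc _ _ hinf hsup ω
  by_cases h1 : φ = 1
  · by_cases h2 : ψ = 1
    · rw [h1, h2, hom_one_mul, hχ.map_one, hχ'.map_one]
    · rw [h1, hom_one_mul]; exact key2 ψ hψ h2
  · by_cases h2 : ψ = 1
    · rw [h2, hom_mul_one]; exact key1 φ hφ h1
    · have := family_eqn hχ hχ' hφ hψ h1 h2
      rw [key1 φ hφ h1, key2 ψ hψ h2] at this
      exact sub_right_injective this

end family

end Cfsg.Agent.Lib.Helper80
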