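import Mathlib
import Cfsg.Prelude.Def_Characters

/-!
Linear characters `X →* ℂˣ` of a finite commutative group trivial on a subgroup: sums, cardinality,
decomposition for an internal direct product, and the functions `(1 - φ)(1 - ψ)`.
-/

set_option autoImplicit false

namespace Cfsg.Agent.Lib.Helper80

open scoped ComplexConjugate

variable {X : Type*} [Group X]

theorem hom_ext_of_sup {A B : Subgroup X} (hAB : A ⊔ B = ⊤) {M : Type*} [Group M] (ω ω' : X →* M)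
    (hA : ∀ x ∈ A, ω x = ω' x) (hB : ∀ x ∈ B, ω x = ω' x) : ω = ω' := by
  have h1 : A ≤ ω.eqLocus ω' := fun x hx => hA x hx
  have h2 : B ≤ ω.eqLocus ω' := fun x hx => hB x hx
  have h3 : (⊤ : Subgroup X) ≤ ω.eqLocus ω' := hAB ▸ sup_le h1 h2
  ext x
  exact h3 (Subgroup.mem_top x)

variable [Finite X]

open Classical in
/-- the linear characters trivial on `N`. -/
noncomputable def dualOf (N : Subgroup X) : Finset (X →* ℂˣ) :=
  letI : Fintype (X →* ℂˣ) := Fintype.ofFinite _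
  Finset.univ.filter (fun φ => ∀ y ∈ N, φ y = 1)

theorem mem_dualOf {N : Subgroup X} {φ : X →* ℂˣ} : φ ∈ dualOf N ↔ ∀ y ∈ N, φ y = 1 := by
  classical
  unfold dualOf
  simp

theorem one_mem_dualOf (N : Subgroup X) : (1 : X →* ℂˣ) ∈ dualOf N := by
  rw [mem_dualOf]; intro y _; rfl

theorem mul_mem_dualOf {N : Subgroup X} {φ ψ : X →* ℂˣ} (hφ : φ ∈ dualOf N) (hψ : ψ ∈ dualOf N) :
    φ * ψ ∈ dualOf N := by
  rw [mem_dualOf] at *
  intro y hy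
  rw [MonoidHom.mul_apply, hφ y hy, hψ y hy, one_mul]

theorem inv_mem_dualOf {N : Subgroup X} {φ : X →* ℂˣ} (hφ : φ ∈ dualOf N) :
    φ⁻¹ ∈ dualOf N := by
  rw [mem_dualOf] at *
  intro y hy
  rw [MonoidHom.inv_apply, hφ y hy, inv_one]

theorem card_dualOf_pos (N : Subgroup X) : 0 < (dualOf N).card :=
  Finset.card_pos.mpr ⟨1, one_mem_dualOf N⟩

theorem exists_hom_ne_one (hc : ∀ a b : X, a * b = b * a) (N : Subgroup X) (x : X) (hx : x ∉ N) :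
    ∃ φ : X →* ℂˣ, (∀ y ∈ N, φ y = 1) ∧ φ x ≠ 1 := by
  let _ : CommGroup X := { ‹Group X› with mul_comm := hc }
  have : NeZero (Monoid.exponent X : ℂ) := ⟨by
    have := Monoid.exponent_ne_zero_of_finite (G := X)
    exact_mod_cast this⟩
  by_contra hcon
  push Not at hcon
  exact hx ((CommGroup.forall_monoidHom_apply_eq_one_iff (M := ℂ) N x).1 hcon)

theorem sum_dualOf_of_not_mem (hc : ∀ a b : X, a * b = b * a) (N : Subgroup X) (x : X)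
    (hx : x ∉ N) : ∑ φ ∈ dualOf N, ((φ x : ℂˣ) : ℂ) = 0 := by
  obtain ⟨φ₀, h0, h1⟩ := exists_hom_ne_one hc N x hx
  have h0' : φ₀ ∈ dualOf N := mem_dualOf.2 h0
  have key : ∑ φ ∈ dualOf N, ((φ x : ℂˣ) : ℂ) = ((φ₀ x : ℂˣ) : ℂ) * ∑ φ ∈ dualOf N, ((φ x : ℂˣ) : ℂ) := by
    rw [Finset.mul_sum]
    refine Finset.sum_bij' (fun φ _ => φ₀⁻¹ * φ) (fun φ _ => φ₀ * φ) ?_ ?_ ?_ ?_ ?_
    · intro φ hφ; exact mul_mem_dualOf (inv_mem_dualOf h0') hφ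
    · intro φ hφ; exact mul_mem_dualOf h0' hφ
    · intro φ _; exact mul_inv_cancel_left φ₀ φ
    · intro φ _; exact inv_mul_cancel_left φ₀ φ
    · intro φ _
      simp only [MonoidHom.mul_apply, MonoidHom.inv_apply, Units.val_mul]
      rw [← mul_assoc, ← Units.val_mul, mul_inv_cancel, Units.val_one, one_mul]
  have h2 : (1 - ((φ₀ x : ℂˣ) : ℂ)) * ∑ φ ∈ dualOf N, ((φ x : ℂˣ) : ℂ) = 0 := by
    linear_combination key
  rcases mul_eq_zero.1 h2 with h | h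
  · exfalso
    apply h1
    ext
    rw [Units.val_one]
    linear_combination -h
  · exact h

theorem sum_dualOf_of_mem (N : Subgroup X) (x : X) (hx : x ∈ N) :
    ∑ φ ∈ dualOf N, ((φ x : ℂˣ) : ℂ) = ((dualOf N).card : ℂ) := by
  rw [Finset.sum_congr rfl (fun φ hφ => by rw [mem_dualOf.1 hφ x hx, Units.val_one]), Finset.sum_const,
    nsmul_eq_mul, mul_one]

theorem conj_hom_apply (φ : X →* ℂˣ) (x : X) : conj ((φ x : ℂˣ) : ℂ) = ((φ x⁻¹ : ℂˣ) : ℂ) := by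
  have hn : ‖((φ x : ℂˣ) : ℂ)‖ = 1 := by
    have : (((φ x : ℂˣ) : ℂ)) ^ (orderOf x) = 1 := by
      rw [← Units.val_pow_eq_pow_val, ← map_pow, pow_orderOf_eq_one, map_one, Units.val_one]
    exact Complex.norm_eq_one_of_pow_eq_one this (orderOf_pos x).ne'
  rw [map_inv, Units.val_inv_eq_inv_val, Complex.inv_eq_conj hn]

theorem card_dualOf (hc : ∀ a b : X, a * b = b * a) (N : Subgroup X) :
    (dualOf N).card = N.index := by
  classical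
  let _ : CommGroup X := { ‹Group X› with mul_comm := hc }
  have : NeZero (Monoid.exponent X : ℂ) := ⟨by
    have := Monoid.exponent_ne_zero_of_finite (G := X)
    exact_mod_cast this⟩
  have h := CommGroup.card_domRestrictHom_ker (M := ℂ) N
  rw [Subgroup.index, ← h]
  let _ : Fintype (X →* ℂˣ) := Fintype.ofFinite _
  rw [Nat.card_eq_fintype_card, ← Fintype.card_coe]
  apply Fintype.card_congr
  refine Equiv.subtypeEquivRight ?_
  intro φ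
  rw [mem_dualOf, MonoidHom.mem_ker]
  constructor
  · intro h
    ext y
    simpa using congrArg Units.val (h y.1 y.2)
  · intro h y hy
    have := DFunLike.congr_fun h (⟨y, hy⟩ : N)
    simpa using this

/-- A function orthogonal to all `(1 - φ)(1 - ψ)` vanishes off `A ∪ B`. -/
theorem eq_zero_of_orthogonal [Fintype X] (hc : ∀ a b : X, a * b = b * a) (A B : Subgroup X)
    (hAB : A ⊓ B = ⊥) (f : X → ℂ)
    (h : ∀ φ ∈ dualOf B, ∀ ψ ∈ dualOf A,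
      ∑ x, f x * conj (1 - ((φ x : ℂˣ) : ℂ) - ((ψ x : ℂˣ) : ℂ) + ((φ x : ℂˣ) : ℂ) * ((ψ x : ℂˣ) : ℂ)) = 0)
    (x₀ : X) (hA : x₀ ∉ A) (hB : x₀ ∉ B) : f x₀ = 0 := by
  classical
  have hT : ∑ φ ∈ dualOf B, ∑ ψ ∈ dualOf A, ((φ x₀ : ℂˣ) : ℂ) * ((ψ x₀ : ℂˣ) : ℂ) *
      ∑ x, f x * conj (1 - ((φ x : ℂˣ) : ℂ) - ((ψ x : ℂˣ) : ℂ) + ((φ x : ℂˣ) : ℂ) * ((ψ x : ℂˣ) : ℂ)) = 0 := by
    refine Finset.sum_eq_zero (fun φ hφ => Finset.sum_eq_zero (fun ψ hψ => ?_))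
    rw [h φ hφ ψ hψ, mul_zero]
  have hSB := sum_dualOf_of_not_mem hc B x₀ hB
  have hSA := sum_dualOf_of_not_mem hc A x₀ hA
  have hinner : ∀ x : X, ∑ φ ∈ dualOf B, ∑ ψ ∈ dualOf A, ((φ x₀ : ℂˣ) : ℂ) * ((ψ x₀ : ℂˣ) : ℂ) *
      conj (1 - ((φ x : ℂˣ) : ℂ) - ((ψ x : ℂˣ) : ℂ) + ((φ x : ℂˣ) : ℂ) * ((ψ x : ℂˣ) : ℂ)) =
      (∑ φ ∈ dualOf B, ((φ (x₀ * x⁻¹) : ℂˣ) : ℂ)) * (∑ ψ ∈ dualOf A, ((ψ (x₀ * x⁻¹) : ℂˣ) : ℂ)) := by
    intro x
    have e : ∀ φ ψ : X →* ℂˣ, ((φ x₀ : ℂˣ) : ℂ) * ((ψ x₀ : ℂˣ) : ℂ) *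
        conj (1 - ((φ x : ℂˣ) : ℂ) - ((ψ x : ℂˣ) : ℂ) + ((φ x : ℂˣ) : ℂ) * ((ψ x : ℂˣ) : ℂ)) =
        ((φ x₀ : ℂˣ) : ℂ) * ((ψ x₀ : ℂˣ) : ℂ) - ((φ (x₀ * x⁻¹) : ℂˣ) : ℂ) * ((ψ x₀ : ℂˣ) : ℂ)
        - ((φ x₀ : ℂˣ) : ℂ) * ((ψ (x₀ * x⁻¹) : ℂˣ) : ℂ)
        + ((φ (x₀ * x⁻¹) : ℂˣ) : ℂ) * ((ψ (x₀ * x⁻¹) : ℂˣ) : ℂ) := by
      intro φ ψ
      simp only [map_add, map_sub, map_mul, map_one, conj_hom_apply, Units.val_mul]
      ring
    simp only [e, Finset.sum_add_distrib, Finset.sum_sub_distrib, ← Finset.mul_sum, ← Finset.sum_mul,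
      hSA, hSB]
    ring
  have hswap : ∑ φ ∈ dualOf B, ∑ ψ ∈ dualOf A, ((φ x₀ : ℂˣ) : ℂ) * ((ψ x₀ : ℂˣ) : ℂ) *
      ∑ x, f x * conj (1 - ((φ x : ℂˣ) : ℂ) - ((ψ x : ℂˣ) : ℂ) + ((φ x : ℂˣ) : ℂ) * ((ψ x : ℂˣ) : ℂ)) =
      ∑ x, f x * ((∑ φ ∈ dualOf B, ((φ (x₀ * x⁻¹) : ℂˣ) : ℂ)) *
        (∑ ψ ∈ dualOf A, ((ψ (x₀ * x⁻¹) : ℂˣ) : ℂ))) := by
    calc _ = ∑ φ ∈ dualOf B, ∑ ψ ∈ dualOf A, ∑ x, f x * (((φ x₀ : ℂˣ) : ℂ) * ((ψ x₀ : ℂˣ) : ℂ) *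
          conj (1 - ((φ x : ℂˣ) : ℂ) - ((ψ x : ℂˣ) : ℂ) + ((φ x : ℂˣ) : ℂ) * ((ψ x : ℂˣ) : ℂ))) := by
          refine Finset.sum_congr rfl (fun φ _ => Finset.sum_congr rfl (fun ψ _ => ?_))
          rw [Finset.mul_sum]
          refine Finset.sum_congr rfl (fun x _ => ?_)
          ring
      _ = ∑ φ ∈ dualOf B, ∑ x, ∑ ψ ∈ dualOf A, f x * (((φ x₀ : ℂˣ) : ℂ) * ((ψ x₀ : ℂˣ) : ℂ) *
          conj (1 - ((φ x : ℂˣ) : ℂ) - ((ψ x : ℂˣ) : ℂ) + ((φ x : ℂˣ) : ℂ) * ((ψ x : ℂˣ) : ℂ))) :=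
          Finset.sum_congr rfl (fun φ _ => Finset.sum_comm)
      _ = ∑ x, ∑ φ ∈ dualOf B, ∑ ψ ∈ dualOf A, f x * (((φ x₀ : ℂˣ) : ℂ) * ((ψ x₀ : ℂˣ) : ℂ) *
          conj (1 - ((φ x : ℂˣ) : ℂ) - ((ψ x : ℂˣ) : ℂ) + ((φ x : ℂˣ) : ℂ) * ((ψ x : ℂˣ) : ℂ))) :=
          Finset.sum_comm
      _ = _ := by
          refine Finset.sum_congr rfl (fun x _ => ?_)
          rw [← hinner x, Finset.mul_sum]
          refine Finset.sum_congr rfl (fun φ _ => ?_)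
          rw [Finset.mul_sum]
  rw [hswap, Finset.sum_eq_single x₀] at hT
  · rw [mul_inv_cancel, sum_dualOf_of_mem B 1 B.one_mem, sum_dualOf_of_mem A 1 A.one_mem] at hT
    have h1 : ((dualOf B).card : ℂ) ≠ 0 := by exact_mod_cast (card_dualOf_pos B).ne'
    have h2 : ((dualOf A).card : ℂ) ≠ 0 := by exact_mod_cast (card_dualOf_pos A).ne'
    rcases mul_eq_zero.1 hT with h | h
    · exact h
    · exact absurd h (mul_ne_zero h1 h2)
  · intro x _ hx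
    by_cases hxB : x₀ * x⁻¹ ∈ B
    · have hxA : x₀ * x⁻¹ ∉ A := by
        intro hxA
        have : x₀ * x⁻¹ ∈ A ⊓ B := ⟨hxA, hxB⟩
        rw [hAB, Subgroup.mem_bot, mul_inv_eq_one] at this
        exact hx this.symm
      rw [sum_dualOf_of_not_mem hc A _ hxA, mul_zero, mul_zero]
    · rw [sum_dualOf_of_not_mem hc B _ hxB, zero_mul, mul_zero]
  · intro h; exact absurd (Finset.mem_univ _) h

theorem mul_injOn_dualOf (A B : Subgroup X) (hsup : A ⊔ B = ⊤) {φ φ' ψ ψ' : X →* ℂˣ}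
    (hφ : φ ∈ dualOf B) (hφ' : φ' ∈ dualOf B) (hψ : ψ ∈ dualOf A) (hψ' : ψ' ∈ dualOf A)
    (h : φ * ψ = φ' * ψ') : φ = φ' ∧ ψ = ψ' := by
  rw [mem_dualOf] at *
  constructor
  · refine hom_ext_of_sup hsup _ _ (fun x hx => ?_) (fun x hx => by rw [hφ x hx, hφ' x hx])
    have := DFunLike.congr_fun h x
    rwa [MonoidHom.mul_apply, MonoidHom.mul_apply, hψ x hx, hψ' x hx, mul_one, mul_one] at this
  · refine hom_ext_of_sup hsup _ _ (fun x hx => by rw [hψ x hx, hψ' x hx]) (fun x hx => ?_)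
    have := DFunLike.congr_fun h x
    rwa [MonoidHom.mul_apply, MonoidHom.mul_apply, hφ x hx, hφ' x hx, one_mul, one_mul] at this

omit [Finite X] in
theorem isComplement'_of_comm (hc : ∀ a b : X, a * b = b * a) (A B : Subgroup X)
    (hAB : A ⊓ B = ⊥) (hsup : A ⊔ B = ⊤) : Subgroup.IsComplement' A B := by
  have hn : B.Normal := ⟨fun n hn g => by rw [hc g n, mul_assoc, mul_inv_cancel, mul_one]; exact hn⟩
  refine Subgroup.isComplement'_of_disjoint_and_mul_eq_univ (disjoint_iff.2 hAB) ?_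
  rw [← Subgroup.mul_normal, hsup, Subgroup.coe_top]

theorem exists_decomp (hc : ∀ a b : X, a * b = b * a) (A B : Subgroup X)
    (hAB : A ⊓ B = ⊥) (hsup : A ⊔ B = ⊤) (ω : X →* ℂˣ) :
    ∃ φ ∈ dualOf B, ∃ ψ ∈ dualOf A, ω = φ * ψ := by
  classical
  let _ : Fintype (X →* ℂˣ) := Fintype.ofFinite _
  have hcompl := isComplement'_of_comm hc A B hAB hsup
  have hcard : ((dualOf B ×ˢ dualOf A).image (fun p => p.1 * p.2)).card
      = Fintype.card (X →* ℂˣ) := by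
    rw [Finset.card_image_of_injOn, Finset.card_product, card_dualOf hc, card_dualOf hc,
      hcompl.index_eq_card, hcompl.symm.index_eq_card, hcompl.card_mul_card, ← Nat.card_eq_fintype_card]
    · let _ : CommGroup X := { ‹Group X› with mul_comm := hc }
      have : NeZero (Monoid.exponent X : ℂ) := ⟨by
        have := Monoid.exponent_ne_zero_of_finite (G := X)
        exact_mod_cast this⟩
      exact (CommGroup.card_monoidHom_of_hasEnoughRootsOfUnity X ℂ).symm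
    · intro p hp q hq hpq
      rw [Finset.mem_coe, Finset.mem_product] at hp hq
      obtain ⟨h1, h2⟩ := mul_injOn_dualOf A B hsup hp.1 hq.1 hp.2 hq.2 hpq
      exact Prod.ext h1 h2
  have huniv := Finset.eq_univ_of_card _ hcard
  have hω : ω ∈ (dualOf B ×ˢ dualOf A).image (fun p => p.1 * p.2) := huniv ▸ Finset.mem_univ ω
  obtain ⟨p, hp, rfl⟩ := Finset.mem_image.1 hω
  rw [Finset.mem_product] at hp
  exact ⟨p.1, hp.1, p.2, hp.2, rfl⟩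

end Cfsg.Agent.Lib.Helper80
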